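import Cfsg.Agent.Mrg.Omega.EH3Close.Numb
import Cfsg.Agent.S1143
import Cfsg.Prelude.Def_Classification2


/-!
# EH3 END: if `⟨A, MM p L⟩ = G` then `G` is known (S1143)
-/

set_option autoImplicit false

namespace Cfsg.Agent.Omega.EH3Close.Fin4

open Cfsg.Agent.ChevalleyStructure.CoxeterGeom Cfsg.Agent.Omega.EH3 Cfsg.Agent.Co2Type.Quad
  Cfsg.Agent.LargeExtra.Base Cfsg.Agent.Omega.EH3Close.Glue

variable {G : Type*} [Group G]

/-- the conclusion of S1143 -/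
theorem known_of_lieConcl (h : TitsThree.Top.LieConcl G) : Cfsg.IsKnownSimple' G := by
  rcases h with h | h | h | h | h | h | h
  · exact Or.inr (Or.inr (Or.inl h))
  · exact Or.inr (Or.inr (Or.inr (Or.inl h)))
  · exact Or.inr (Or.inr (Or.inr (Or.inr (Or.inl h))))
  · exact Or.inr (Or.inr (Or.inr (Or.inr (Or.inr (Or.inl h)))))
  · exact Or.inr (Or.inr (Or.inr (Or.inr (Or.inr (Or.inr (Or.inl h))))))
  · exact Or.inr (Or.inr (Or.inr (Or.inr (Or.inr (Or.inr (Or.inr (Or.inl h)))))))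
  · exact Or.inr (Or.inr (Or.inr (Or.inr (Or.inr (Or.inr (Or.inr (Or.inr (Or.inl h))))))))

/-- **If `⟨A, MM p L⟩ = G` then `G` is known.** -/
theorem At.known_of_top [Finite G] [IsSimpleGroup G] {Q A : Subgroup G} {z a : G}
    {p : Pair Q z A a} {l : ℕ} {M : CoxeterMatrix (Fin l)} {q : Fin l → ℕ} {i : Fin l}
    {A' : Fin l → Fin l → ℤ} {h : IsCartan M A'} {L : Subgroup p.H} {T : Subgroup L} {n : Fin l → L}
    {X : (Fin l → ℤ) → Subgroup L} {w : ℕ}
    (C : Cfg (p.H.subtype : p.H →* (p.lz.V ≃ₗ[ZMod 2] p.lz.V)) p.lz.b p.lz.q p.va p.D (p.X.subgroupOf p.H) w)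
    (D : At p q i h L T n X) (htop : A ⊔ MM p L = ⊤) : Cfsg.IsKnownSimple' G := by
  obtain ⟨P, -, h3, hirr⟩ := D.exists_bnPair C
  let e : ↥(A ⊔ MM p L) ≃* G := (MulEquiv.subgroupCongr htop).trans Subgroup.topEquiv
  have : IsSimpleGroup ↥(A ⊔ MM p L) := e.isSimpleGroup
  exact known_of_lieConcl (TitsThree.Top.LieConcl.of_equiv e.symm (S1143.result P h3 hirr))

end Cfsg.Agent.Omega.EH3Close.Fin4
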