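import Cfsg.Agent.Mrg.ParSys.Fam.Rgd
import Cfsg.Agent.Omega.EH3Close.Two
import Cfsg.Agent.Omega.EH3.Basic
import Cfsg.Agent.Omega.EH3.Of

section


/-!
# EH3 END, glue 1: from a normal subgroup `L` of `p.H` with a root group datum to the parabolic system of `⟨A, L^⟩`

`p : Pair Q z A a`, `C : Cfg (p.H.subtype) ..`, `L` normal in `p.H` containing `X` and all elements of odd order, with a
root group datum of characteristic 2; all minimal parabolics except the one of the node `i` fix `ã`, `|X_i| = 2`,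
`C_V(U) = {0, ã}`.  `MM p L` = the preimage of `L` in `C_G(z)`, `phi p L : MM p L →* L`.

* `sys` : `Free.Sys` of type `extM M {i}` for `G0 = ⟨A, MM p L⟩`;
* `lev` : helper886's `Lev` (so `C_G(z)` and `N_G(⟨z, a⟩)` normalise `G0`);
* `card_up` : `|U^| = |Q| |U|`.
-/

set_option autoImplicit false
set_option linter.unusedSectionVars false

namespace Cfsg.Agent.Omega.EH3Close.Glue

open CoxeterSystem Cfsg.Agent.ChevalleyStructure.CoxeterGeom Cfsg.Agent.Tits.Roots Cfsg.Agent.Tits.Core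
  Cfsg.Agent.Tits.RootComb Cfsg.Agent.Nodes.Comb Cfsg.Agent.Nodes.Reps Cfsg.Agent.Nodes.BNOf
  Cfsg.Agent.Nodes.StabComb Cfsg.Agent.Nodes.Bruhat Cfsg.Agent.Nodes.LeviDec Cfsg.Agent.Nodes.NormalForm
  Cfsg.Agent.ParSys Cfsg.Agent.Omega.ThmID Cfsg.Agent.Omega.EH3
  Cfsg.Agent.Co2Type.Quad Cfsg.Agent.LargeExtra.Base

variable {G : Type*} [Group G] {Q A : Subgroup G} {z a : G}

/-! ### the preimage of `L` -/

/-- `C_G(z) → H` -/
noncomputable def aH (p : Pair Q z A a) : Subgroup.centralizer ({z} : Set G) →* p.H := p.lz.act.rangeRestrict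

theorem aH_coe (p : Pair Q z A a) (c : Subgroup.centralizer ({z} : Set G)) :
    ((aH p c : p.H) : p.lz.V ≃ₗ[ZMod 2] p.lz.V) = p.lz.act c := rfl

theorem aH_surj (p : Pair Q z A a) : Function.Surjective (aH p) := p.lz.act.rangeRestrict_surjective

/-- the preimage of `L` -/
noncomputable def MM (p : Pair Q z A a) (L : Subgroup p.H) : Subgroup G :=
  (L.comap (aH p)).map (Subgroup.centralizer ({z} : Set G)).subtype

variable {p : Pair Q z A a} {L : Subgroup p.H}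

theorem mem_MM {g : G} : g ∈ MM p L ↔ ∃ h : g ∈ Subgroup.centralizer ({z} : Set G), aH p ⟨g, h⟩ ∈ L := by
  constructor
  · rintro ⟨⟨x, hx⟩, h1, rfl⟩
    exact ⟨hx, h1⟩
  · rintro ⟨h, h1⟩
    exact ⟨⟨g, h⟩, h1, rfl⟩

theorem MM_le {g : G} (hg : g ∈ MM p L) : g ∈ Subgroup.centralizer ({z} : Set G) := (mem_MM.1 hg).1

theorem aH_mem {g : G} (hg : g ∈ MM p L) : aH p ⟨g, MM_le hg⟩ ∈ L := (mem_MM.1 hg).2

/-- `MM p L → L` -/
noncomputable def phi (p : Pair Q z A a) (L : Subgroup p.H) : MM p L →* L where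
  toFun m := ⟨aH p ⟨m, MM_le m.2⟩, aH_mem m.2⟩
  map_one' := Subtype.ext (map_one (aH p))
  map_mul' m m' := Subtype.ext (map_mul (aH p) ⟨m, MM_le m.2⟩ ⟨m', MM_le m'.2⟩)

theorem phi_coe (m : MM p L) : ((phi p L m : L) : p.H) = aH p ⟨m, MM_le m.2⟩ := rfl

theorem phi_surj : Function.Surjective (phi p L) := by
  rintro ⟨l, hl⟩
  obtain ⟨c, rfl⟩ := aH_surj p l
  exact ⟨⟨c, mem_MM.2 ⟨c.2, hl⟩⟩, rfl⟩

theorem Q_le_MM : Q ≤ MM p L := by
  intro x hx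
  have hx' : x ∈ Subgroup.centralizer ({z} : Set G) := Subgroup.mem_centralizer_singleton_iff.2 (p.lz.comm_z x hx)
  refine mem_MM.2 ⟨hx', ?_⟩
  have h1 : aH p ⟨x, hx'⟩ = 1 := Subtype.ext (p.lz.act_mem ⟨x, hx'⟩ hx)
  rw [h1]; exact one_mem _

theorem phi_ker [Finite G] (m : MM p L) : phi p L m = 1 ↔ (m : G) ∈ Q := by
  constructor
  · intro h
    have h1 : aH p ⟨m, MM_le m.2⟩ = 1 := congrArg Subtype.val h
    exact p.lz.mem_of_act ⟨m, MM_le m.2⟩ (congrArg Subtype.val h1)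
  · intro h
    exact Subtype.ext (Subtype.ext (p.lz.act_mem ⟨m, MM_le m.2⟩ h))

/-- action on `V` and conjugation -/
theorem act_iff {x v : G} (hx : x ∈ Subgroup.centralizer ({z} : Set G)) (hv : v ∈ Q) :
    (aH p ⟨x, hx⟩ : p.lz.V ≃ₗ[ZMod 2] p.lz.V) (p.lz.pr ⟨v, hv⟩) = p.lz.pr ⟨v, hv⟩ ↔
      x * v * x⁻¹ = v ∨ x * v * x⁻¹ = v * z := by
  rw [aH_coe, p.lz.act_pr, p.lz.pr_eq_pr, p.lz.conjQ_coe]

theorem act_a_iff {x : G} (hx : x ∈ Subgroup.centralizer ({z} : Set G)) :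
    (aH p ⟨x, hx⟩ : p.lz.V ≃ₗ[ZMod 2] p.lz.V) p.va = p.va ↔ x * a * x⁻¹ = a ∨ x * a * x⁻¹ = a * z :=
  act_iff hx p.a_mem

/-! ### the hypotheses of THEOREM END -/

section

variable [Finite G] {w : ℕ}
  (C : Cfg (p.H.subtype : p.H →* (p.lz.V ≃ₗ[ZMod 2] p.lz.V)) p.lz.b p.lz.q p.va p.D (p.X.subgroupOf p.H) w)

include C in
/-- `hD` -/
theorem hD {v : G} (hv : v ∈ Q) (hx : ∀ x ∈ A, x * z = z * x →
    x * v * x⁻¹ = v ∨ x * v * x⁻¹ = v * z ∨ x * v * x⁻¹ = v * a ∨ x * v * x⁻¹ = v * (a * z)) : v ∈ A := by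
  rw [← p.pr_mem_D ⟨v, hv⟩]
  apply C.mem_D_of_fix_mod
  intro f hf
  obtain ⟨c, hc, e⟩ := p.mem_X.1 (Subgroup.mem_subgroupOf.1 hf)
  have hcz := Subgroup.mem_centralizer_singleton_iff.1 c.2
  have e1 : (p.H.subtype f : p.lz.V ≃ₗ[ZMod 2] p.lz.V) (p.lz.pr ⟨v, hv⟩) = p.lz.pr (p.lz.conjQ c ⟨v, hv⟩) := by
    have : (p.H.subtype f : p.lz.V ≃ₗ[ZMod 2] p.lz.V) = p.lz.act c := e.symm
    rw [this, p.lz.act_pr]
  rw [e1]
  have key : ∀ u : G, ∀ hu : u ∈ Q, (c : G) * v * (c : G)⁻¹ = u ∨ (c : G) * v * (c : G)⁻¹ = u * z →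
      p.lz.pr (p.lz.conjQ c ⟨v, hv⟩) = p.lz.pr ⟨u, hu⟩ := by
    intro u hu h
    rw [p.lz.pr_eq_pr, p.lz.conjQ_coe]
    exact h
  have hva : p.lz.pr ⟨v * a, mul_mem hv p.a_mem⟩ = p.lz.pr ⟨v, hv⟩ + p.va := by
    rw [Pair.va, ← p.lz.pr_mul]; rfl
  rcases hx c hc hcz with h | h | h | h
  · refine ⟨0, ?_⟩
    rw [key v hv (Or.inl h), p.lz.add_self, zero_smul]
  · refine ⟨0, ?_⟩
    rw [key v hv (Or.inr h), p.lz.add_self, zero_smul]
  · refine ⟨1, ?_⟩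
    rw [key (v * a) (mul_mem hv p.a_mem) (Or.inl h), hva, one_smul, add_comm (p.lz.pr ⟨v, hv⟩), add_assoc,
      p.lz.add_self, add_zero]
  · refine ⟨1, ?_⟩
    rw [key (v * a) (mul_mem hv p.a_mem) (Or.inr (by rw [h, mul_assoc])), hva, one_smul,
      add_comm (p.lz.pr ⟨v, hv⟩), add_assoc, p.lz.add_self, add_zero]

theorem hLz (l : G) (hl : l ∈ MM p L) : l * z = z * l := Subgroup.mem_centralizer_singleton_iff.1 (MM_le hl)

theorem hLn (hL : L.Normal) (g : G) (hg : g * z = z * g) (l : G) (hl : l ∈ MM p L) : g * l * g⁻¹ ∈ MM p L := by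
  have hg' : g ∈ Subgroup.centralizer ({z} : Set G) := Subgroup.mem_centralizer_singleton_iff.2 hg
  refine mem_MM.2 ⟨mul_mem (mul_mem hg' (MM_le hl)) (inv_mem hg'), ?_⟩
  have h1 := hL.conj_mem _ (aH_mem hl) (aH p ⟨g, hg'⟩)
  rw [← map_inv, ← map_mul, ← map_mul] at h1
  exact h1

theorem hLp (hodd : ∀ g : p.H, Odd (orderOf g) → g ∈ L) (g : G) (hg : g * z = z * g) : ∃ n : ℕ, g ^ 2 ^ n ∈ MM p L := by
  have hg' : g ∈ Subgroup.centralizer ({z} : Set G) := Subgroup.mem_centralizer_singleton_iff.2 hg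
  have : Finite p.H := Finite.of_surjective _ (aH_surj p)
  obtain ⟨n, hn⟩ := Two.pow_mem hodd (aH p ⟨g, hg'⟩)
  refine ⟨n, mem_MM.2 ⟨pow_mem hg' _, ?_⟩⟩
  rw [← map_pow] at hn
  exact hn

theorem hX (hX0 : p.X.subgroupOf p.H ≤ L) (x : G) (hxA : x ∈ A) (hxz : x * z = z * x) : x ∈ MM p L := by
  have hx' : x ∈ Subgroup.centralizer ({z} : Set G) := Subgroup.mem_centralizer_singleton_iff.2 hxz
  refine mem_MM.2 ⟨hx', hX0 (Subgroup.mem_subgroupOf.2 ?_)⟩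
  exact p.mem_X.2 ⟨⟨x, hx'⟩, hxA, rfl⟩

theorem up_iff {T : Subgroup L} {g : G} : g ∈ up (phi p L) T ↔
    ∃ h : g ∈ MM p L, (⟨aH p ⟨g, MM_le h⟩, aH_mem h⟩ : L) ∈ T := mem_up

variable {I W : Type*} [Fintype I] [DecidableEq I] [Group W] {M : CoxeterMatrix I}
  {cs : CoxeterSystem M W} {A' : I → I → ℤ} {h : IsCartan M A'} {T : Subgroup L} {n : I → L}
  {X' : (I → ℤ) → Subgroup L} [Finite W]

/-- `hfix` -/
theorem hfix {U : Subgroup L} (hU : ∀ v, (∀ g ∈ U, (p.H.subtype (g : p.H) : p.lz.V ≃ₗ[ZMod 2] p.lz.V) v = v) →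
    v = 0 ∨ v = p.va) (x : G) (hx : x ∈ Q) (hs : ∀ s ∈ up (phi p L) U, s * x * s⁻¹ = x ∨ s * x * s⁻¹ = x * z) :
    x = 1 ∨ x = z ∨ x = a ∨ x = a * z := by
  have h1 : p.lz.pr ⟨x, hx⟩ = 0 ∨ p.lz.pr ⟨x, hx⟩ = p.va := by
    apply hU
    intro g hg
    obtain ⟨m, hm⟩ := phi_surj (p := p) (L := L) g
    have h2 := hs m (mem_up.2 ⟨m.2, by rw [← hm] at hg; exact hg⟩)
    rw [← hm]
    exact (act_iff (p := p) (MM_le m.2) hx).2 h2
  rcases h1 with h1 | h1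
  · rcases p.lz.pr_eq_zero.1 h1 with h2 | h2
    · exact Or.inl h2
    · exact Or.inr (Or.inl h2)
  · rcases p.lz.pr_eq_pr.1 h1 with h2 | h2
    · exact Or.inr (Or.inr (Or.inl h2))
    · exact Or.inr (Or.inr (Or.inr h2))

/-- **THEOREM END for a root group datum.** -/
theorem sys (C : Cfg (p.H.subtype : p.H →* (p.lz.V ≃ₗ[ZMod 2] p.lz.V)) p.lz.b p.lz.q p.va p.D (p.X.subgroupOf p.H) w)
    (hL : L.Normal) (hodd : ∀ g : p.H, Odd (orderOf g) → g ∈ L) (hX0 : p.X.subgroupOf p.H ≤ L)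
    (R : RGD cs h 2 T n X') (hG : GG cs h T X' = ⊤) {i : I} {q : I → ℕ}
    (hfx : ∀ j, j ≠ i → ∀ g ∈ PJ cs h T X' {j}, (p.H.subtype (g : p.H) : p.lz.V ≃ₗ[ZMod 2] p.lz.V) p.va = p.va)
    (hq : ∀ j, Nat.card (X' (sr j)) = q j) (hqi : q i = 2) (hq2 : ∀ j, 2 ≤ q j)
    (hU : ∀ v, (∀ g ∈ RGD.Sup X' (RGD.Pos cs h), (p.H.subtype (g : p.H) : p.lz.V ≃ₗ[ZMod 2] p.lz.V) v = v) →
      v = 0 ∨ v = p.va) :
    Free.Sys (extM M {i}).toCoxeterSystem ((up (phi p L) (RGD.B cs h T X')).subgroupOf (A ⊔ MM p L))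
      (fun o => (PP (ThmID.Cfg.P0 A (up (phi p L) (RGD.B cs h T X'))) (fun j => up (phi p L) (PJ cs h T X' {j})) o).subgroupOf
        (A ⊔ MM p L))
      ((up (phi p L) (RGD.Sup X' (RGD.Pos cs h))).subgroupOf (A ⊔ MM p L)) (qq q) := by
  have : Finite p.H := Finite.of_surjective _ (aH_surj p)
  have hxs := OfRGD.xsys R hG
  have hq' : (fun j => Nat.card (X' (sr j))) = q := funext hq
  rw [hq'] at hxs
  refine end_sys p hLz (hLn hL) (hLp hodd) Q_le_MM (hX hX0) phi_surj phi_ker hxs (hfix hU)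
    (fun v hv _ hx => hD C hv hx) (extM M {i}).toCoxeterSystem (fun _ _ => rfl) ?_ hq2 ?_
  · intro j
    by_cases hj : j = i
    · right
      subst hj
      refine ⟨by rw [extM_none_some, if_pos (Finset.mem_singleton_self _)], hqi, ?_⟩
      by_contra hcon
      push Not at hcon
      -- all of `L` fixes `ã`
      obtain ⟨l, hl, hla⟩ := Two.exists_move C hL hodd
      apply hla
      have hall : ∀ k, ∀ g ∈ PJ cs h T X' {k}, (p.H.subtype (g : p.H) : p.lz.V ≃ₗ[ZMod 2] p.lz.V) p.va = p.va := by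
        intro k g hg
        by_cases hk : k = j
        · subst hk
          obtain ⟨m, rfl⟩ := phi_surj (p := p) (L := L) g
          refine (act_a_iff (MM_le m.2)).2 ?_
          by_cases h1 : (m : G) * a * (m : G)⁻¹ = a
          · exact Or.inl h1
          · exact Or.inr (hcon m (mem_up.2 ⟨m.2, hg⟩) h1)
        · exact hfx k hk g hg
      let St : Subgroup L := (stab (p.H.subtype : p.H →* (p.lz.V ≃ₗ[ZMod 2] p.lz.V)) p.va).comap L.subtype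
      have h2 : (⊤ : Subgroup L) ≤ St := by
        rw [← hxs.gen]
        have h3 : ∀ k, PJ cs h T X' {k} ≤ St := fun k g hg => hall k g hg
        exact sup_le (le_trans (hxs.BP j) (h3 j)) (iSup_le h3)
      exact h2 (Subgroup.mem_top (⟨l, hl⟩ : L))
    · left
      refine ⟨by rw [extM_none_some, if_neg (by simpa using hj)], ?_⟩
      intro x hx
      obtain ⟨hx1, hx2⟩ := mem_up.1 hx
      exact (act_a_iff (MM_le hx1)).1 (hfx j hj _ hx2)
  · obtain ⟨l, hl, hla⟩ := Two.exists_opp C hL hodd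
    obtain ⟨m, hm⟩ := phi_surj (p := p) (L := L) ⟨l, hl⟩
    refine ⟨m, m.2, fun hcomm => ?_⟩
    have e1 : (p.H.subtype l : p.lz.V ≃ₗ[ZMod 2] p.lz.V) p.va = p.lz.pr (p.lz.conjQ ⟨m, MM_le m.2⟩ ⟨a, p.a_mem⟩) := by
      have e2 : l = aH p ⟨m, MM_le m.2⟩ := (congrArg Subtype.val hm).symm
      rw [e2]
      exact p.lz.act_pr _ _
    rw [e1, Pair.va] at hla
    have h3 := (p.lz.b_pr ⟨a, p.a_mem⟩ (p.lz.conjQ ⟨m, MM_le m.2⟩ ⟨a, p.a_mem⟩)).2 (by
      rw [p.lz.conjQ_coe]; exact hcomm.symm)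
    rw [h3] at hla
    exact zero_ne_one hla

/-- helper886's level structure: `C_G(z)` and `N_G(⟨z, a⟩)` normalise `⟨A, MM p L⟩` -/
theorem lev (hL : L.Normal) (hodd : ∀ g : p.H, Odd (orderOf g) → g ∈ L) (hX0 : p.X.subgroupOf p.H ≤ L)
    (R : RGD cs h 2 T n X') (hG : GG cs h T X' = ⊤)
    (hU : ∀ v, (∀ g ∈ RGD.Sup X' (RGD.Pos cs h), (p.H.subtype (g : p.H) : p.lz.V ≃ₗ[ZMod 2] p.lz.V) v = v) →
      v = 0 ∨ v = p.va) :
    Lev Q A z a (up (phi p L) (RGD.Sup X' (RGD.Pos cs h))) (MM p L) := by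
  have : Finite p.H := Finite.of_surjective _ (aH_surj p)
  exact lev_of p hLz (hLn hL) (hLp hodd) Q_le_MM (hX hX0) phi_surj phi_ker (OfRGD.xsys R hG) (hfix hU)

/-- `|U^| = |Q| |U|` -/
theorem card_up (U : Subgroup L) : Nat.card (up (phi p L) U) = Nat.card Q * Nat.card U := by
  let ψ : U.comap (phi p L) →* U := (phi p L).subgroupComap U
  have hψ : Function.Surjective ψ := by
    rintro ⟨u, hu⟩
    obtain ⟨m, rfl⟩ := phi_surj (p := p) (L := L) u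
    exact ⟨⟨m, hu⟩, rfl⟩
  have hker : ∀ m : U.comap (phi p L), m ∈ ψ.ker ↔ ((m : MM p L) : G) ∈ Q := by
    intro m
    rw [← phi_ker (p := p) (L := L) (m : MM p L), MonoidHom.mem_ker]
    exact ⟨fun h => congrArg Subtype.val h, fun h => Subtype.ext h⟩
  have h1 : Nat.card ψ.ker = Nat.card Q := by
    refine Nat.card_congr
      { toFun := fun m => ⟨((m : U.comap (phi p L)) : MM p L), (hker m).1 m.2⟩
        invFun := fun x => ⟨⟨⟨x, Q_le_MM x.2⟩, ?_⟩, ?_⟩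
        left_inv := fun m => rfl
        right_inv := fun x => rfl }
    · have h2 : phi p L ⟨x, Q_le_MM x.2⟩ = 1 := (phi_ker _).2 x.2
      show phi p L ⟨x, Q_le_MM x.2⟩ ∈ U
      rw [h2]; exact one_mem _
    · exact (hker _).2 x.2
  have h2 := Subgroup.card_mul_index ψ.ker
  rw [Subgroup.index_ker, MonoidHom.range_eq_top.2 hψ, Subgroup.card_top, h1] at h2
  rw [h2, up, Subgroup.card_map_of_injective (Subgroup.subtype_injective _)]

end

end Cfsg.Agent.Omega.EH3Close.Glue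

end

section


/-!
# EH3 END for a general system of minimal parabolics (helper73)

`EH3Close.Glue.sys` and `.lev` with an arbitrary `XSys` of the normal subgroup `L` of `p.H` in place of a root group datum.
-/

set_option autoImplicit false
set_option linter.unusedSectionVars false

namespace Cfsg.Agent.Omega.EH3.XEnd

open Cfsg.Agent.ParSys Cfsg.Agent.Omega.ThmID Cfsg.Agent.Omega.EH3 Cfsg.Agent.Omega.EH3Close
  Cfsg.Agent.Omega.EH3Close.Glue Cfsg.Agent.Co2Type.Quad Cfsg.Agent.LargeExtra.Base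

variable {G : Type*} [Group G] {Q A : Subgroup G} {z a : G} {p : Pair Q z A a} {L : Subgroup p.H} [Finite G] {w : ℕ}
  {J : Type*} {T B : Subgroup L} {P : J → Subgroup L} {M : J → J → ℕ} {q : J → ℕ}

/-- helper886's level structure -/
theorem lev (hL : L.Normal) (hodd : ∀ g : p.H, Odd (orderOf g) → g ∈ L) (hX0 : p.X.subgroupOf p.H ≤ L)
    (h : XSys T B P M q)
    (hU : ∀ v, (∀ g ∈ T, (p.H.subtype (g : p.H) : p.lz.V ≃ₗ[ZMod 2] p.lz.V) v = v) → v = 0 ∨ v = p.va) :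
    Lev Q A z a (up (phi p L) T) (MM p L) :=
  lev_of p hLz (hLn hL) (hLp hodd) Q_le_MM (hX hX0) phi_surj phi_ker h (hfix hU)

/-- **THEOREM END** -/
theorem sys (C : Cfg (p.H.subtype : p.H →* (p.lz.V ≃ₗ[ZMod 2] p.lz.V)) p.lz.b p.lz.q p.va p.D (p.X.subgroupOf p.H) w)
    (hL : L.Normal) (hodd : ∀ g : p.H, Odd (orderOf g) → g ∈ L) (hX0 : p.X.subgroupOf p.H ≤ L)
    (h : XSys T B P M q)
    (hU : ∀ v, (∀ g ∈ T, (p.H.subtype (g : p.H) : p.lz.V ≃ₗ[ZMod 2] p.lz.V) v = v) → v = 0 ∨ v = p.va)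
    {M' : CoxeterMatrix (Option J)} {W : Type*} [Group W] (cs : CoxeterSystem M' W)
    (hsome : ∀ i j, M' (some i) (some j) = M i j)
    (hnone : ∀ j, (M' none (some j) = 2 ∧
        ∀ x ∈ P j, (p.H.subtype (x : p.H) : p.lz.V ≃ₗ[ZMod 2] p.lz.V) p.va = p.va) ∨
      (M' none (some j) = 3 ∧ q j = 2 ∧
        ∃ x ∈ P j, (p.H.subtype (x : p.H) : p.lz.V ≃ₗ[ZMod 2] p.lz.V) p.va ≠ p.va))
    (htwo : ∀ j, 2 ≤ q j) :
    Free.Sys cs ((up (phi p L) B).subgroupOf (A ⊔ MM p L))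
      (fun o => (PP (ThmID.Cfg.P0 A (up (phi p L) B)) (fun j => up (phi p L) (P j)) o).subgroupOf (A ⊔ MM p L))
      ((up (phi p L) T).subgroupOf (A ⊔ MM p L)) (qq q) := by
  have : Finite p.H := Finite.of_surjective _ (aH_surj p)
  refine end_sys p hLz (hLn hL) (hLp hodd) Q_le_MM (hX hX0) phi_surj phi_ker h (hfix hU)
    (fun v hv _ hx => hD C hv hx) cs hsome ?_ htwo ?_
  · intro j
    rcases hnone j with ⟨h1, h2⟩ | ⟨h1, h2, x, hx, h3⟩
    · left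
      refine ⟨h1, ?_⟩
      intro x hx
      obtain ⟨hx1, hx2⟩ := mem_up.1 hx
      exact (act_a_iff (MM_le hx1)).1 (h2 _ hx2)
    · right
      refine ⟨h1, h2, ?_⟩
      obtain ⟨m, rfl⟩ := phi_surj (p := p) (L := L) x
      have h4 : ¬ ((m : G) * a * (m : G)⁻¹ = a ∨ (m : G) * a * (m : G)⁻¹ = a * z) :=
        fun h' => h3 ((act_a_iff (MM_le m.2)).2 h')
      exact ⟨m, mem_up.2 ⟨m.2, hx⟩, fun h' => h4 (Or.inl h'), fun h' => h4 (Or.inr h')⟩
  · obtain ⟨l, hl, hla⟩ := Two.exists_opp C hL hodd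
    obtain ⟨m, hm⟩ := phi_surj (p := p) (L := L) ⟨l, hl⟩
    refine ⟨m, m.2, fun hcomm => ?_⟩
    have e1 : (p.H.subtype l : p.lz.V ≃ₗ[ZMod 2] p.lz.V) p.va = p.lz.pr (p.lz.conjQ ⟨m, MM_le m.2⟩ ⟨a, p.a_mem⟩) := by
      have e2 : l = aH p ⟨m, MM_le m.2⟩ := (congrArg Subtype.val hm).symm
      rw [e2]
      exact p.lz.act_pr _ _
    rw [e1, Pair.va] at hla
    have h3 := (p.lz.b_pr ⟨a, p.a_mem⟩ (p.lz.conjQ ⟨m, MM_le m.2⟩ ⟨a, p.a_mem⟩)).2 (by
      rw [p.lz.conjQ_coe]; exact hcomm.symm)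
    rw [h3] at hla
    exact zero_ne_one hla

end Cfsg.Agent.Omega.EH3.XEnd

end
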