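import Cfsg.Agent.Mrg.ParSys.Fam.Rgd
import Cfsg.Agent.Mrg.Omega.EH3Close.Roots
import Cfsg.Agent.Mrg.ParSys.FreeTrans
import Cfsg.Agent.Mrg.ParSys.RootEpsBD
import Cfsg.Agent.Mrg.Omega.EH3Close.Glue
import Cfsg.Agent.Mrg.Omega.EH3.Kf.Base
import Cfsg.Agent.Omega.EH3.Cons
import Cfsg.Agent.Nodes.LeviDec

section


/-!
# EH3 END: the numbers for the four diagrams

For `M` = `A₅` (node 2), `D₆` (node 4 or 5), `E₇` (node 6), `B₃` (node 2, `q = (4, 4, 2)`): the orders of `U` and of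
`V_J`, `J = I ∖ {i}`, for every root group datum of type `M`, and the number `q_{w₀}` of the extended diagram
(`E₆`, `E₇`, `E₈`, `F₄`).
-/

set_option autoImplicit false

namespace Cfsg.Agent.Omega.EH3Close.Numb

open CoxeterSystem Cfsg.Agent.ChevalleyStructure.CoxeterGeom Cfsg.Agent.Tits.Roots Cfsg.Agent.Tits.Core
  Cfsg.Agent.Tits.RootComb Cfsg.Agent.Nodes.Comb Cfsg.Agent.Nodes.Reps Cfsg.Agent.Nodes.BNOf
  Cfsg.Agent.Nodes.StabComb Cfsg.Agent.Nodes.Bruhat Cfsg.Agent.Nodes.LeviDec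
  Cfsg.Agent.ParSys.RootCount Cfsg.Agent.ParSys.RootExc Cfsg.Agent.ParSys.FreeCount Cfsg.Agent.Omega.EH3Close.Roots
open Cfsg.Agent.LieRecognition.BNCox (cA)

/-! ### the Cartan matrix is determined by the Coxeter matrix -/

theorem cartan_eq {I : Type*} {M : CoxeterMatrix I} {A A₀ : I → I → ℤ} (h : IsCartan M A) (h₀ : IsCartan M A₀)
    (h4 : ∀ i j, M i j ≠ 4) (h6 : ∀ i j, M i j ≠ 6) : A = A₀ := by
  funext i j
  by_cases hij : i = j
  · subst hij; rw [h.diag, h₀.diag]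
  · rcases h.rel i j hij with h1 | h1 | h1 | h1
    · rcases h₀.rel i j hij with h2 | h2 | h2 | h2
      · rw [h1.2.1, h2.2.1]
      all_goals omega
    · rcases h₀.rel i j hij with h2 | h2 | h2 | h2
      · omega
      · rw [h1.2.1, h2.2.1]
      all_goals omega
    · exact absurd h1.1 (h4 i j)
    · exact absurd h1.1 (h6 i j)

set_option backward.isDefEq.respectTransparency false in
theorem isCartan_A5 : IsCartan (cA 5) AA5 := by
  constructor <;> decide +kernel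

set_option backward.isDefEq.respectTransparency false in
theorem isCartan_D6 : IsCartan (Nodes.TypeD.M 4) AD6 := by
  constructor <;> decide +kernel

set_option backward.isDefEq.respectTransparency false in
theorem ne_A5 : (∀ i j, cA 5 i j ≠ 4) ∧ ∀ i j, cA 5 i j ≠ 6 := by
  constructor <;> decide +kernel

set_option backward.isDefEq.respectTransparency false in
theorem ne_D6 : (∀ i j, Nodes.TypeD.M 4 i j ≠ 4) ∧ ∀ i j, Nodes.TypeD.M 4 i j ≠ 6 := by
  constructor <;> decide +kernel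

set_option backward.isDefEq.respectTransparency false in
theorem ne_E7 : (∀ i j, CoxeterMatrix.E₇ i j ≠ 4) ∧ ∀ i j, CoxeterMatrix.E₇ i j ≠ 6 := by
  constructor <;> decide +kernel

/-! ### orders -/

section orders

variable {W Y : Type*} [Group W] [Group Y] [Finite W] {p : ℕ}

/-- all parameters equal -/
theorem card_const {k : ℕ} {M : CoxeterMatrix (Fin k)} {cs : CoxeterSystem M W} {A : Fin k → Fin k → ℤ}
    {h : IsCartan M A} {T : Subgroup Y} {n : Fin k → Y} {X : (Fin k → ℤ) → Subgroup Y} (R : RGD cs h p T n X)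
    {L : List (Fin k → ℤ)} (hR : PosRoots A L.toFinset) (hN : L.Nodup) {x : ℕ}
    (hq : ∀ i, Nat.card (X (sr i)) = x) (i : Fin k) {N m : ℕ} (h1 : L.length = N)
    (h2 : (L.filter fun v => 0 < v i).length = m) :
    Nat.card (RGD.Sup X (RGD.Pos cs h)) = x ^ N ∧ Nat.card (VJ cs h X {i}ᶜ) = x ^ m := by
  constructor
  · rw [CountU.card_U R hR (wt := fun _ => x) (fun _ _ _ _ => rfl) hq, Finset.prod_const,
      List.toFinset_card_of_nodup hN, h1]
  · rw [CountU.card_VJ_single R hR (wt := fun _ => x) (fun _ _ _ _ => rfl) hq i, Finset.prod_const]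
    congr 1
    have e : (L.toFinset.filter fun v => 0 < v i) = (L.filter fun v => 0 < v i).toFinset := by
      ext v
      simp
    rw [e, List.toFinset_card_of_nodup (hN.filter _), ← h2]

theorem card_A5 {cs : CoxeterSystem (cA 5) W} {A : Fin 5 → Fin 5 → ℤ} {h : IsCartan (cA 5) A} {T : Subgroup Y}
    {n : Fin 5 → Y} {X : (Fin 5 → ℤ) → Subgroup Y} (R : RGD cs h p T n X) (hq : ∀ i, Nat.card (X (sr i)) = 2) :
    Nat.card (RGD.Sup X (RGD.Pos cs h)) = 2 ^ 15 ∧ Nat.card (VJ cs h X {(2 : Fin 5)}ᶜ) = 2 ^ 9 := by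
  have e : A = AA5 := cartan_eq h isCartan_A5 ne_A5.1 ne_A5.2
  subst e
  exact card_const R posRoots_A5 nodup_A5 hq 2 (by decide +kernel) (by decide +kernel)

theorem card_D6 {cs : CoxeterSystem (Nodes.TypeD.M 4) W} {A : Fin 6 → Fin 6 → ℤ} {h : IsCartan (Nodes.TypeD.M 4) A}
    {T : Subgroup Y} {n : Fin 6 → Y} {X : (Fin 6 → ℤ) → Subgroup Y} (R : RGD cs h p T n X)
    (hq : ∀ i, Nat.card (X (sr i)) = 2) {i : Fin 6} (hi : i = 4 ∨ i = 5) :
    Nat.card (RGD.Sup X (RGD.Pos cs h)) = 2 ^ 30 ∧ Nat.card (VJ cs h X {i}ᶜ) = 2 ^ 15 := by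
  have e : A = AD6 := cartan_eq h isCartan_D6 ne_D6.1 ne_D6.2
  subst e
  rcases hi with rfl | rfl
  · exact card_const R posRoots_D6 nodup_D6 hq 4 (by decide +kernel) (by decide +kernel)
  · exact card_const R posRoots_D6 nodup_D6 hq 5 (by decide +kernel) (by decide +kernel)

theorem card_E7 {cs : CoxeterSystem CoxeterMatrix.E₇ W} {A : Fin 7 → Fin 7 → ℤ} {h : IsCartan CoxeterMatrix.E₇ A}
    {T : Subgroup Y} {n : Fin 7 → Y} {X : (Fin 7 → ℤ) → Subgroup Y} (R : RGD cs h p T n X)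
    (hq : ∀ i, Nat.card (X (sr i)) = 2) :
    Nat.card (RGD.Sup X (RGD.Pos cs h)) = 2 ^ 63 ∧ Nat.card (VJ cs h X {(6 : Fin 7)}ᶜ) = 2 ^ 27 := by
  have e : A = AE7 := cartan_eq h isCartan_E7 ne_E7.1 ne_E7.2
  subst e
  exact card_const R posRoots_E7 (by decide +kernel) hq 6 (by decide +kernel) (by decide +kernel)

/-- the weight of the long roots of `B₃` is `4`, of the short roots `2` -/
def wB (v : Fin 3 → ℤ) : ℕ := if v 2 % 2 = 0 then 4 else 2

/-- the weight of the short roots of `C₃` is `4`, of the long roots `2` -/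
def wC (v : Fin 3 → ℤ) : ℕ := if v 0 % 2 = 0 ∧ v 1 % 2 = 0 then 2 else 4

theorem card_wt {M : CoxeterMatrix (Fin 3)} {cs : CoxeterSystem M W} {A : Fin 3 → Fin 3 → ℤ}
    {h : IsCartan M A} {T : Subgroup Y} {n : Fin 3 → Y} {X : (Fin 3 → ℤ) → Subgroup Y} (R : RGD cs h p T n X)
    {L : List (Fin 3 → ℤ)} (hR : PosRoots A L.toFinset) (hN : L.Nodup) (wt : (Fin 3 → ℤ) → ℕ)
    (hwt : ∀ i, ∀ v ∈ L, v ≠ Pi.single i 1 → wt (refl A i v) = wt v)
    (hq : ∀ i, Nat.card (X (sr i)) = wt (Pi.single i 1)) (i : Fin 3)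
    (h1 : (L.map wt).prod = 2 ^ 15) (h2 : ((L.filter fun v => 0 < v i).map wt).prod = 2 ^ 9) :
    Nat.card (RGD.Sup X (RGD.Pos cs h)) = 2 ^ 15 ∧ Nat.card (VJ cs h X {i}ᶜ) = 2 ^ 9 := by
  have hwt' : ∀ i, ∀ v ∈ L.toFinset, v ≠ Pi.single i 1 → wt (refl A i v) = wt v :=
    fun i v hv => hwt i v (List.mem_toFinset.1 hv)
  constructor
  · rw [CountU.card_U R hR hwt' hq, List.prod_toFinset _ hN, h1]
  · have e : (L.toFinset.filter fun v => 0 < v i) = (L.filter fun v => 0 < v i).toFinset := by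
      ext v
      simp
    rw [CountU.card_VJ_single R hR hwt' hq i, e, List.prod_toFinset _ (hN.filter _)]
    exact h2

set_option backward.isDefEq.respectTransparency false in
theorem B3_vals : (∀ i j : Fin 3, CoxeterMatrix.B 3 i j = if i = j then 1 else
    if (i = 0 ∧ j = 1) ∨ (i = 1 ∧ j = 0) then 3 else if (i = 1 ∧ j = 2) ∨ (i = 2 ∧ j = 1) then 4 else 2) := by
  decide +kernel

theorem cartan_B3 {A : Fin 3 → Fin 3 → ℤ} (h : IsCartan (CoxeterMatrix.B 3) A) : A = AB3 ∨ A = AC3 := by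
  have h01 := h.rel 0 1 (by decide)
  have h02 := h.rel 0 2 (by decide)
  have h12 := h.rel 1 2 (by decide)
  have d0 := h.diag 0
  have d1 := h.diag 1
  have d2 := h.diag 2
  rw [B3_vals] at h01 h02 h12
  have e01 : (if (0 : Fin 3) = 1 then 1 else if ((0 : Fin 3) = 0 ∧ (1 : Fin 3) = 1) ∨ ((0 : Fin 3) = 1 ∧ (1 : Fin 3) = 0) then 3
      else if ((0 : Fin 3) = 1 ∧ (1 : Fin 3) = 2) ∨ ((0 : Fin 3) = 2 ∧ (1 : Fin 3) = 1) then 4 else 2) = 3 := by decide
  have e02 : (if (0 : Fin 3) = 2 then 1 else if ((0 : Fin 3) = 0 ∧ (2 : Fin 3) = 1) ∨ ((0 : Fin 3) = 1 ∧ (2 : Fin 3) = 0) then 3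
      else if ((0 : Fin 3) = 1 ∧ (2 : Fin 3) = 2) ∨ ((0 : Fin 3) = 2 ∧ (2 : Fin 3) = 1) then 4 else 2) = 2 := by decide
  have e12 : (if (1 : Fin 3) = 2 then 1 else if ((1 : Fin 3) = 0 ∧ (2 : Fin 3) = 1) ∨ ((1 : Fin 3) = 1 ∧ (2 : Fin 3) = 0) then 3
      else if ((1 : Fin 3) = 1 ∧ (2 : Fin 3) = 2) ∨ ((1 : Fin 3) = 2 ∧ (2 : Fin 3) = 1) then 4 else 2) = 4 := by decide
  rw [e01] at h01
  rw [e02] at h02
  rw [e12] at h12
  have a01 : A 0 1 = -1 ∧ A 1 0 = -1 := by omega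
  have a02 : A 0 2 = 0 ∧ A 2 0 = 0 := by omega
  have a12 : (A 1 2 = -1 ∧ A 2 1 = -2) ∨ (A 1 2 = -2 ∧ A 2 1 = -1) := by omega
  rcases a12 with a12 | a12
  · left
    funext i j
    fin_cases i <;> fin_cases j
    · exact d0
    · exact a01.1
    · exact a02.1
    · exact a01.2
    · exact d1
    · exact a12.1
    · exact a02.2
    · exact a12.2
    · exact d2
  · right
    funext i j
    fin_cases i <;> fin_cases j
    · exact d0
    · exact a01.1
    · exact a02.1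
    · exact a01.2
    · exact d1
    · exact a12.1
    · exact a02.2
    · exact a12.2
    · exact d2

theorem card_B3 {cs : CoxeterSystem (CoxeterMatrix.B 3) W} {A : Fin 3 → Fin 3 → ℤ} {h : IsCartan (CoxeterMatrix.B 3) A}
    {T : Subgroup Y} {n : Fin 3 → Y} {X : (Fin 3 → ℤ) → Subgroup Y} (R : RGD cs h p T n X)
    (hq : ∀ i, Nat.card (X (sr i)) = (![4, 4, 2] : Fin 3 → ℕ) i) :
    Nat.card (RGD.Sup X (RGD.Pos cs h)) = 2 ^ 15 ∧ Nat.card (VJ cs h X {(2 : Fin 3)}ᶜ) = 2 ^ 9 := by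
  rcases cartan_B3 h with e | e
  · subst e
    refine card_wt R posRoots_B3 nodup_B3 wB (by decide +kernel) ?_ 2 (by decide +kernel) (by decide +kernel)
    intro i
    rw [hq]
    have key : ∀ i : Fin 3, (![4, 4, 2] : Fin 3 → ℕ) i = wB (Pi.single i 1) := by decide +kernel
    exact key i
  · subst e
    refine card_wt R posRoots_C3 nodup_C3 wC (by decide +kernel) ?_ 2 (by decide +kernel) (by decide +kernel)
    intro i
    rw [hq]
    have key : ∀ i : Fin 3, (![4, 4, 2] : Fin 3 → ℕ) i = wC (Pi.single i 1) := by decide +kernel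
    exact key i

end orders

/-! ### the extended diagrams -/

/-- `A₅ + 0 = E₆` -/
def eA : Option (Fin 5) ≃ Fin 6 where
  toFun := fun o => match o with
    | none => 1
    | some i => (![0, 2, 3, 4, 5] : Fin 5 → Fin 6) i
  invFun := ![some 0, none, some 1, some 2, some 3, some 4]
  left_inv := by decide
  right_inv := by decide

/-- `D₆ + 0 = E₇`, node 4 -/
def eD : Option (Fin 6) ≃ Fin 7 where
  toFun := fun o => match o with
    | none => 0
    | some i => (![6, 5, 4, 3, 2, 1] : Fin 6 → Fin 7) i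
  invFun := ![none, some 5, some 4, some 3, some 2, some 1, some 0]
  left_inv := by decide
  right_inv := by decide

/-- `D₆ + 0 = E₇`, node 5 -/
def eD' : Option (Fin 6) ≃ Fin 7 where
  toFun := fun o => match o with
    | none => 0
    | some i => (![6, 5, 4, 3, 1, 2] : Fin 6 → Fin 7) i
  invFun := ![none, some 4, some 5, some 3, some 2, some 1, some 0]
  left_inv := by decide
  right_inv := by decide

/-- `E₇ + 0 = E₈` -/
def eE : Option (Fin 7) ≃ Fin 8 where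
  toFun := fun o => match o with
    | none => 7
    | some i => (![0, 1, 2, 3, 4, 5, 6] : Fin 7 → Fin 8) i
  invFun := ![some 0, some 1, some 2, some 3, some 4, some 5, some 6, none]
  left_inv := by decide
  right_inv := by decide

/-- `B₃ + 0 = F₄` -/
def eB : Option (Fin 3) ≃ Fin 4 where
  toFun := fun o => match o with
    | none => 3
    | some i => (![0, 1, 2] : Fin 3 → Fin 4) i
  invFun := ![some 0, some 1, some 2, none]
  left_inv := by decide
  right_inv := by decide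

theorem cox_ext {B : Type*} {M M' : CoxeterMatrix B} (h : ∀ i j, M i j = M' i j) : M = M' := by
  cases M; cases M'
  congr
  exact funext fun i => funext fun j => h i j

set_option backward.isDefEq.respectTransparency false in
theorem ext_A : (extM (cA 5) {(2 : Fin 5)}).reindex eA = CoxeterMatrix.E₆ := by
  apply cox_ext
  decide +kernel

set_option backward.isDefEq.respectTransparency false in
theorem ext_D : (extM (Nodes.TypeD.M 4) {(4 : Fin 6)}).reindex eD = CoxeterMatrix.E₇ := by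
  apply cox_ext
  decide +kernel

set_option backward.isDefEq.respectTransparency false in
theorem ext_D' : (extM (Nodes.TypeD.M 4) {(5 : Fin 6)}).reindex eD' = CoxeterMatrix.E₇ := by
  apply cox_ext
  decide +kernel

set_option backward.isDefEq.respectTransparency false in
theorem ext_E : (extM CoxeterMatrix.E₇ {(6 : Fin 7)}).reindex eE = CoxeterMatrix.E₈ := by
  apply cox_ext
  decide +kernel

set_option backward.isDefEq.respectTransparency false in
theorem ext_B : (extM (CoxeterMatrix.B 3) {(2 : Fin 3)}).reindex eB = CoxeterMatrix.F₄ := by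
  apply cox_ext
  decide +kernel

open Cfsg.Agent.Omega.ThmID (qq)

theorem qq_two {I : Type*} {q : I → ℕ} (hq : ∀ i, q i = 2) (o : Option I) : qq q o = 2 := by
  cases o with
  | none => rfl
  | some i => exact hq i

theorem hasQ_A {q : Fin 5 → ℕ} (hq : ∀ i, q i = 2) : HasQ (extM (cA 5) {(2 : Fin 5)}) (qq q) (2 ^ 36) :=
  hasQ_E6 eA ext_A (qq_two hq)

theorem hasQ_D6 {q : Fin 6 → ℕ} (hq : ∀ i, q i = 2) {i : Fin 6} (hi : i = 4 ∨ i = 5) :
    HasQ (extM (Nodes.TypeD.M 4) {i}) (qq q) (2 ^ 63) := by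
  rcases hi with rfl | rfl
  · exact hasQ_E7 eD ext_D (qq_two hq)
  · exact hasQ_E7 eD' ext_D' (qq_two hq)

theorem hasQ_E {q : Fin 7 → ℕ} (hq : ∀ i, q i = 2) : HasQ (extM CoxeterMatrix.E₇ {(6 : Fin 7)}) (qq q) (2 ^ 120) :=
  hasQ_E8 eE ext_E (qq_two hq)

theorem hasQ_B {q : Fin 3 → ℕ} (hq : ∀ i, q i = (![4, 4, 2] : Fin 3 → ℕ) i) :
    HasQ (extM (CoxeterMatrix.B 3) {(2 : Fin 3)}) (qq q) (2 ^ 36) := by
  have e : q = ![4, 4, 2] := funext hq
  subst e
  have h1 := hasQ_F4 (q := qq (![4, 4, 2] : Fin 3 → ℕ)) eB ext_B (x := 4) (y := 2) (by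
    intro o
    cases o with
    | none => rfl
    | some i =>
      have key : ∀ i : Fin 3, (![4, 4, 2] : Fin 3 → ℕ) i = if ((eB (some i) : Fin 4) : ℕ) < 2 then 4 else 2 := by decide
      exact key i)
  have h2 : 4 ^ 12 * 2 ^ 12 = 2 ^ 36 := by norm_num
  rwa [h2] at h1

theorem conn_A5 : ∀ J : Set (Option (Fin 5)), J.Nonempty → Jᶜ.Nonempty →
    ∃ i ∈ J, ∃ j ∈ Jᶜ, extM (cA 5) {(2 : Fin 5)} i j ≠ 2 := conn_E6 eA ext_A

theorem conn_D6 {i : Fin 6} (hi : i = 4 ∨ i = 5) : ∀ J : Set (Option (Fin 6)), J.Nonempty → Jᶜ.Nonempty →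
    ∃ k ∈ J, ∃ j ∈ Jᶜ, extM (Nodes.TypeD.M 4) {i} k j ≠ 2 := by
  rcases hi with rfl | rfl
  · exact conn_E7 eD ext_D
  · exact conn_E7 eD' ext_D'

theorem conn_E : ∀ J : Set (Option (Fin 7)), J.Nonempty → Jᶜ.Nonempty →
    ∃ i ∈ J, ∃ j ∈ Jᶜ, extM CoxeterMatrix.E₇ {(6 : Fin 7)} i j ≠ 2 := conn_E8 eE ext_E

theorem conn_B3 : ∀ J : Set (Option (Fin 3)), J.Nonempty → Jᶜ.Nonempty →
    ∃ i ∈ J, ∃ j ∈ Jᶜ, extM (CoxeterMatrix.B 3) {(2 : Fin 3)} i j ≠ 2 := conn_F4 eB ext_B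

end Cfsg.Agent.Omega.EH3Close.Numb

end

section


/-!
# EH3 END, glue 2: the output `Four` of KF gives the (B,N)-pair of `⟨A, MM p L⟩`

`num` : the orders in the four cases;  `At` : the data of `Four`, unpacked;  `At.exists_bnPair` : the (B,N)-pair of
`G0 = ⟨A, MM p L⟩` with Borel subgroup `B^` (preimage of `B`);  `At.conj`, `At.conj_V` : `C_G(z)` and
`N_G(⟨z, a⟩)` normalise `G0`.
-/

set_option autoImplicit false

namespace Cfsg.Agent.Omega.EH3Close.Fin4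

open CoxeterSystem Cfsg.Agent.ChevalleyStructure.CoxeterGeom Cfsg.Agent.Tits.Roots Cfsg.Agent.Tits.Core
  Cfsg.Agent.Tits.RootComb Cfsg.Agent.Nodes.Comb Cfsg.Agent.Nodes.Reps Cfsg.Agent.Nodes.BNOf
  Cfsg.Agent.Nodes.StabComb Cfsg.Agent.Nodes.Bruhat Cfsg.Agent.Nodes.LeviDec Cfsg.Agent.Nodes.NormalForm
  Cfsg.Agent.ParSys Cfsg.Agent.ParSys.FreeCount Cfsg.Agent.Omega.ThmID Cfsg.Agent.Omega.EH3
  Cfsg.Agent.Co2Type.Quad Cfsg.Agent.LargeExtra.Base Cfsg.Agent.Omega.EH3Close.Glue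
open Cfsg.Agent.Omega.EH3.Kf.Goal (Good Four)
open Cfsg.Agent.Omega.EH3.Kf.Out (OutAt)

/-- the numbers in the four cases -/
theorem num {Y : Type*} [Group Y] {l : ℕ} {M : CoxeterMatrix (Fin l)} {q : Fin l → ℕ} {i : Fin l} (hg : Good M q i)
    [Finite M.Group] {A' : Fin l → Fin l → ℤ} {h : IsCartan M A'} {T : Subgroup Y} {n : Fin l → Y}
    {X : (Fin l → ℤ) → Subgroup Y} (R : RGD M.toCoxeterSystem h 2 T n X) (hq : ∀ j, Nat.card (X (sr j)) = q j) :
    q i = 2 ∧ (∀ j, 2 ≤ q j) ∧ 3 ≤ Nat.card (Option (Fin l)) ∧ ∃ u v : ℕ,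
      Nat.card (RGD.Sup X (RGD.Pos M.toCoxeterSystem h)) = 2 ^ u ∧
      Nat.card (VJ M.toCoxeterSystem h X {i}ᶜ) = 2 ^ v ∧ HasQ (extM M {i}) (qq q) (2 ^ (2 * v + 3 + u)) ∧
      ∀ J : Set (Option (Fin l)), J.Nonempty → Jᶜ.Nonempty → ∃ k ∈ J, ∃ j ∈ Jᶜ, extM M {i} k j ≠ 2 := by
  cases hg with
  | A5 =>
    obtain ⟨h1, h2⟩ := Numb.card_A5 R hq
    exact ⟨rfl, fun _ => le_rfl, by rw [Nat.card_eq_fintype_card]; decide, 15, 9, h1, h2,
      Numb.hasQ_A fun _ => rfl, Numb.conn_A5⟩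
  | D6 =>
    obtain ⟨h1, h2⟩ := Numb.card_D6 R hq (i := 4) (Or.inl rfl)
    exact ⟨rfl, fun _ => le_rfl, by rw [Nat.card_eq_fintype_card]; decide, 30, 15, h1, h2,
      Numb.hasQ_D6 (fun _ => rfl) (Or.inl rfl), Numb.conn_D6 (Or.inl rfl)⟩
  | D6' =>
    obtain ⟨h1, h2⟩ := Numb.card_D6 R hq (i := 5) (Or.inr rfl)
    exact ⟨rfl, fun _ => le_rfl, by rw [Nat.card_eq_fintype_card]; decide, 30, 15, h1, h2,
      Numb.hasQ_D6 (fun _ => rfl) (Or.inr rfl), Numb.conn_D6 (Or.inr rfl)⟩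
  | E7 =>
    obtain ⟨h1, h2⟩ := Numb.card_E7 R hq
    exact ⟨rfl, fun _ => le_rfl, by rw [Nat.card_eq_fintype_card]; decide, 63, 27, h1, h2,
      Numb.hasQ_E fun _ => rfl, Numb.conn_E⟩
  | C3 =>
    obtain ⟨h1, h2⟩ := Numb.card_B3 R hq
    exact ⟨rfl, by decide, by rw [Nat.card_eq_fintype_card]; decide, 15, 9, h1, h2,
      Numb.hasQ_B fun _ => rfl, Numb.conn_B3⟩

variable {G : Type*} [Group G] {Q A : Subgroup G} {z a : G}

/-- the data of `Four`, unpacked -/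
structure At (p : Pair Q z A a) {l : ℕ} {M : CoxeterMatrix (Fin l)} (q : Fin l → ℕ) (i : Fin l)
    {A' : Fin l → Fin l → ℤ} (h : IsCartan M A') (L : Subgroup p.H) (T : Subgroup L) (n : Fin l → L)
    (X : (Fin l → ℤ) → Subgroup L) : Prop where
  good : Good M q i
  fin : Finite M.Group
  normal : L.Normal
  odd : ∀ g : p.H, Odd (orderOf g) → g ∈ L
  X0 : p.X.subgroupOf p.H = (VJ M.toCoxeterSystem h X {i}ᶜ).map L.subtype
  rgd : RGD M.toCoxeterSystem h 2 T n X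
  gen : GG M.toCoxeterSystem h T X = ⊤
  fix : ∀ j, j ≠ i → ∀ g ∈ PJ M.toCoxeterSystem h T X {j}, (p.H.subtype (g : p.H) : p.lz.V ≃ₗ[ZMod 2] p.lz.V) p.va = p.va
  card : ∀ j, Nat.card (X (sr j)) = q j
  cent : ∀ v, (∀ g ∈ RGD.Sup X (RGD.Pos M.toCoxeterSystem h),
    (p.H.subtype (g : p.H) : p.lz.V ≃ₗ[ZMod 2] p.lz.V) v = v) → v = 0 ∨ v = p.va

/-- `Four`, unpacked -/
theorem exists_at {p : Pair Q z A a}
    (F : Four (p.H.subtype : p.H →* (p.lz.V ≃ₗ[ZMod 2] p.lz.V)) p.va (p.X.subgroupOf p.H)) :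
    ∃ (l : ℕ) (M : CoxeterMatrix (Fin l)) (q : Fin l → ℕ) (i : Fin l) (A' : Fin l → Fin l → ℤ) (h : IsCartan M A')
      (L : Subgroup p.H) (T : Subgroup L) (n : Fin l → L) (X : (Fin l → ℤ) → Subgroup L), At p q i h L T n X := by
  obtain ⟨l, M, q, i, A', h, hg, hf, L, T, n, X, h1, h2, h3, h4, h5, h6, h7, h8⟩ := F
  exact ⟨l, M, q, i, A', h, L, T, n, X, ⟨hg, hf, h1, h2, h3, h4, h5, h6, h7, h8⟩⟩

namespace At

variable {p : Pair Q z A a} {l : ℕ} {M : CoxeterMatrix (Fin l)} {q : Fin l → ℕ} {i : Fin l}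
  {A' : Fin l → Fin l → ℤ} {h : IsCartan M A'} {L : Subgroup p.H} {T : Subgroup L} {n : Fin l → L}
  {X : (Fin l → ℤ) → Subgroup L}

theorem X0_le (D : At p q i h L T n X) : p.X.subgroupOf p.H ≤ L := by
  rw [D.X0]
  rintro _ ⟨x, -, rfl⟩
  exact x.2

variable [Finite G] {w : ℕ}

/-- `C_G(z)` normalises `G0` -/
theorem conj (D : At p q i h L T n X) {g : G} (hg : g * z = z * g) {x : G} (hx : x ∈ A ⊔ MM p L) :
    g * x * g⁻¹ ∈ A ⊔ MM p L := by
  have := D.fin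
  exact (lev D.normal D.odd D.X0_le D.rgd D.gen D.cent).conj_G0 hg hx

/-- `N_G(⟨z, a⟩)` normalises `G0` -/
theorem conj_V (D : At p q i h L T n X) {g : G}
    (hg : g * z * g⁻¹ = z ∨ g * z * g⁻¹ = a ∨ g * z * g⁻¹ = a * z) {x : G} (hx : x ∈ A ⊔ MM p L) :
    g * x * g⁻¹ ∈ A ⊔ MM p L := by
  have := D.fin
  exact (lev D.normal D.odd D.X0_le D.rgd D.gen D.cent).conj_G0_V hg hx

end At

end Cfsg.Agent.Omega.EH3Close.Fin4

end

section


/-!
# EH3 END, glue 3: the (B,N)-pair of `⟨A, MM p L⟩`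

`At.exists_bnPair` : in the situation `At` (the output `Four` of KF) the group `G0 = ⟨A, MM p L⟩` has an irreducible
(B,N)-pair of rank at least 3 with Borel subgroup the preimage of `B`.
-/

set_option autoImplicit false

namespace Cfsg.Agent.Omega.EH3Close.Fin4.At

open CoxeterSystem Cfsg.Agent.ChevalleyStructure.CoxeterGeom Cfsg.Agent.Tits.Roots Cfsg.Agent.Tits.Core
  Cfsg.Agent.Tits.RootComb Cfsg.Agent.Nodes.Comb Cfsg.Agent.Nodes.Reps Cfsg.Agent.Nodes.BNOf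
  Cfsg.Agent.Nodes.StabComb Cfsg.Agent.Nodes.Bruhat Cfsg.Agent.Nodes.LeviDec Cfsg.Agent.Nodes.NormalForm
  Cfsg.Agent.ParSys Cfsg.Agent.ParSys.FreeCount Cfsg.Agent.Omega.ThmID Cfsg.Agent.Omega.EH3
  Cfsg.Agent.Co2Type.Quad Cfsg.Agent.LargeExtra.Base Cfsg.Agent.Omega.EH3Close.Glue
open Cfsg.Agent.Omega.EH3.Kf.Goal (Good Four)

variable {G : Type*} [Group G] {Q A : Subgroup G} {z a : G}
  {p : Pair Q z A a} {l : ℕ} {M : CoxeterMatrix (Fin l)} {q : Fin l → ℕ} {i : Fin l}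
  {A' : Fin l → Fin l → ℤ} {h : IsCartan M A'} {L : Subgroup p.H} {T : Subgroup L} {n : Fin l → L}
  {X : (Fin l → ℤ) → Subgroup L} [Finite G] {w : ℕ}

/-- `|X0| = |V_J|`, `|U|`, `|Q|`: the numbers -/
theorem nums (D : At p q i h L T n X)
    (C : Cfg (p.H.subtype : p.H →* (p.lz.V ≃ₗ[ZMod 2] p.lz.V)) p.lz.b p.lz.q p.va p.D (p.X.subgroupOf p.H) w) :
    q i = 2 ∧ (∀ j, 2 ≤ q j) ∧ 3 ≤ Nat.card (Option (Fin l)) ∧
      HasQ (extM M {i}) (qq q) (Nat.card (up (phi p L) (RGD.Sup X (RGD.Pos M.toCoxeterSystem h)))) ∧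
      ∀ J : Set (Option (Fin l)), J.Nonempty → Jᶜ.Nonempty → ∃ k ∈ J, ∃ j ∈ Jᶜ, extM M {i} k j ≠ 2 := by
  have := D.fin
  obtain ⟨h1, h2, h3, u, v, hu, hv, hQ, hc⟩ := num D.good D.rgd D.card
  refine ⟨h1, h2, h3, ?_, hc⟩
  have e1 : Nat.card (p.X.subgroupOf p.H) = 2 ^ v := by
    rw [D.X0, Subgroup.card_map_of_injective (Subgroup.subtype_injective _), hv]
  have e2 : w - 1 = v := by
    have := C.card_X
    rw [e1] at this
    exact (Nat.pow_right_injective (le_refl 2) this).symm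
  have e3 := C.five
  have e4 : w = v + 1 := by omega
  have e5 : Nat.card Q = 2 ^ (2 * v + 3) := by
    rw [p.lz.card_eq, C.card_V, e4, ← pow_succ']
    congr 1
  rw [card_up, e5, hu, ← pow_add]
  exact hQ

/-- **The (B,N)-pair of `G0 = ⟨A, MM p L⟩`.** -/
theorem exists_bnPair (D : At p q i h L T n X)
    (C : Cfg (p.H.subtype : p.H →* (p.lz.V ≃ₗ[ZMod 2] p.lz.V)) p.lz.b p.lz.q p.va p.D (p.X.subgroupOf p.H) w) :
    ∃ P : Cfsg.BNPair ↥(A ⊔ MM p L), P.B = (up (phi p L) (RGD.B M.toCoxeterSystem h T X)).subgroupOf (A ⊔ MM p L) ∧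
      3 ≤ P.rank ∧ P.Irreducible := by
  have := D.fin
  obtain ⟨h1, h2, h3, hQ, hc⟩ := D.nums C
  have hs := sys C D.normal D.odd D.X0_le D.rgd D.gen D.fix D.card h1 h2 D.cent
  have hle : up (phi p L) (RGD.Sup X (RGD.Pos M.toCoxeterSystem h)) ≤ A ⊔ MM p L := by
    refine le_trans ?_ le_sup_right
    intro g hg
    exact (mem_up.1 hg).1
  have hcard : Nat.card ((up (phi p L) (RGD.Sup X (RGD.Pos M.toCoxeterSystem h))).subgroupOf (A ⊔ MM p L)) =
      Nat.card (up (phi p L) (RGD.Sup X (RGD.Pos M.toCoxeterSystem h))) :=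
    Nat.card_congr (Subgroup.subgroupOfEquivOfLe hle).toEquiv
  obtain ⟨P, hB, hr, -, hirr⟩ := hQ.exists_bnPair hs hcard
  exact ⟨P, hB, hr ▸ h3, hirr hc⟩

end Cfsg.Agent.Omega.EH3Close.Fin4.At

end

section


/-!
# EH3 END, LEMMA (Q): the conjugates of `z` in `Q`

`hadj` : in the situation `At`, if the configuration `Cfg` is available for every `Pair Q z A'' a''`, every conjugate of
`z` in `Q` is `y z y⁻¹` with `y` in the normaliser of `G0 = ⟨A, MM p L⟩`.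
-/

set_option autoImplicit false

namespace Cfsg.Agent.Omega.EH3Close.QQ

open CoxeterSystem Cfsg.Agent.ChevalleyStructure.CoxeterGeom Cfsg.Agent.Tits.Roots Cfsg.Agent.Tits.Core
  Cfsg.Agent.Nodes.BNOf Cfsg.Agent.Omega.ThmID Cfsg.Agent.Omega.EH3
  Cfsg.Agent.Co2Type.Quad Cfsg.Agent.LargeExtra.Base Cfsg.Agent.Omega.EH3Close.Glue Cfsg.Agent.Omega.EH3Close.Fin4

variable {G : Type*} [Group G] {Q A : Subgroup G} {z a : G}

/-- `z` and `a` are conjugate in `⟨A, Q⟩` -/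
theorem exists_conj (p : Pair Q z A a) : ∃ y ∈ A ⊔ Q, y * z * y⁻¹ = a := by
  obtain ⟨x, hx, e⟩ := exists_not_comm p.la p.z_mem p.lz.z_ne p.ne.symm
  obtain ⟨y, hy, e'⟩ := exists_not_comm p.lz p.a_mem p.la.z_ne p.ne
  have h1 := p.la.comm_z x hx
  have h2 := p.lz.comm_z y hy
  have h3 := p.lz.comm_z a p.a_mem
  refine ⟨y * x, mul_mem (Subgroup.mem_sup_right hy) (Subgroup.mem_sup_left hx), ?_⟩
  calc y * x * z * (y * x)⁻¹ = y * (x * z) * x⁻¹ * y⁻¹ := by group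
    _ = y * (z * (x * a)) * x⁻¹ * y⁻¹ := by rw [e, mul_assoc z x a]
    _ = y * (z * (a * x)) * x⁻¹ * y⁻¹ := by rw [h1]
    _ = (y * z) * a * y⁻¹ := by group
    _ = z * (y * a) * y⁻¹ := by rw [h2]; group
    _ = z * (a * (y * z)) * y⁻¹ := by rw [e', mul_assoc a y z]
    _ = z * (a * (z * y)) * y⁻¹ := by rw [h2]
    _ = z * (a * z) := by group
    _ = (z * z) * a := by rw [h3]; group
    _ = a := by rw [p.lz.z_sq, one_mul]

/-- `a z` and `a` are conjugate in `Q` -/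
theorem exists_conj_mul (p : Pair Q z A a) : ∃ y ∈ Q, y * (a * z) * y⁻¹ = a := by
  obtain ⟨y, hy, e'⟩ := exists_not_comm p.lz p.a_mem p.la.z_ne p.ne
  have h2 := p.lz.comm_z y hy
  refine ⟨y, hy, ?_⟩
  calc y * (a * z) * y⁻¹ = (y * a) * z * y⁻¹ := by group
    _ = a * (y * z) * z * y⁻¹ := by rw [e', mul_assoc a y z]
    _ = a * (z * y) * z * y⁻¹ := by rw [h2]
    _ = a * z * (y * z) * y⁻¹ := by group
    _ = a * z * (z * y) * y⁻¹ := by rw [h2]
    _ = a * (z * z) := by group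
    _ = a := by rw [p.lz.z_sq, mul_one]

variable [Finite G] {p : Pair Q z A a} {l : ℕ} {M : CoxeterMatrix (Fin l)} {q : Fin l → ℕ} {i : Fin l}
  {A' : Fin l → Fin l → ℤ} {h : IsCartan M A'} {L : Subgroup p.H} {T : Subgroup L} {n : Fin l → L}
  {X : (Fin l → ℤ) → Subgroup L} {w : ℕ}

/-- a vector `v ≠ 0` whose stabiliser in `p.H` contains a Sylow 2-subgroup is conjugate to `ã` -/
theorem exists_of_syl (D : At p q i h L T n X) (S : Sylow 2 p.H) {v : p.lz.V} (hv : v ≠ 0)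
    (hS : ∀ s ∈ (S : Subgroup p.H), (s : p.lz.V ≃ₗ[ZMod 2] p.lz.V) v = v) :
    ∃ g : p.H, (g : p.lz.V ≃ₗ[ZMod 2] p.lz.V) v = p.va := by
  have hfin : Finite p.H := Finite.of_surjective _ (aH_surj p)
  have := D.fin
  obtain ⟨-, -, -, u, -, hu, -⟩ := num D.good D.rgd D.card
  have hU : IsPGroup 2 ((RGD.Sup X (RGD.Pos M.toCoxeterSystem h)).map L.subtype) := by
    apply IsPGroup.of_card (n := u)
    rw [Subgroup.card_map_of_injective (Subgroup.subtype_injective _), hu]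
  obtain ⟨P, hP⟩ := hU.exists_le_sylow
  obtain ⟨g, hg⟩ := MulAction.exists_smul_eq (p.H) S P
  refine ⟨g, ?_⟩
  rcases D.cent ((g : p.lz.V ≃ₗ[ZMod 2] p.lz.V) v) (fun x hx => by
    have h1 : ((x : L) : p.H) ∈ (P : Subgroup p.H) := hP ⟨x, hx, rfl⟩
    rw [← hg, Sylow.coe_subgroup_smul] at h1
    obtain ⟨s, hs, e⟩ := h1
    have e1 : ((x : L) : p.H) = g * s * g⁻¹ := e.symm
    have h2 := hS s hs
    show (p.H.subtype ((x : L) : p.H) : p.lz.V ≃ₗ[ZMod 2] p.lz.V) ((g : p.lz.V ≃ₗ[ZMod 2] p.lz.V) v) = _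
    rw [e1]
    have e3 : (p.H.subtype (g * s * g⁻¹) : p.lz.V ≃ₗ[ZMod 2] p.lz.V) ((g : p.lz.V ≃ₗ[ZMod 2] p.lz.V) v) =
        (p.H.subtype (g * s * g⁻¹ * g) : p.lz.V ≃ₗ[ZMod 2] p.lz.V) v := by
      rw [map_mul _ (g * s * g⁻¹) g]; rfl
    rw [e3, inv_mul_cancel_right, map_mul]
    show (g : p.lz.V ≃ₗ[ZMod 2] p.lz.V) ((s : p.lz.V ≃ₗ[ZMod 2] p.lz.V) v) = _
    rw [h2]) with h3 | h3
  · exfalso
    apply hv
    have : (g : p.lz.V ≃ₗ[ZMod 2] p.lz.V) v = (g : p.lz.V ≃ₗ[ZMod 2] p.lz.V) 0 := by rw [h3, map_zero]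
    exact (g : p.lz.V ≃ₗ[ZMod 2] p.lz.V).injective this
  · exact h3

/-- `C_G(z) ≤ N_G(G0)` -/
theorem centralizer_le (D : At p q i h L T n X) {g : G} (hg : g * z = z * g) :
    g ∈ Subgroup.normalizer ((A ⊔ MM p L : Subgroup G) : Set G) :=
  mem_normalizer_of fun _ hx => D.conj hg hx

theorem centralizer_le' (D : At p q i h L T n X) :
    Subgroup.centralizer ({z} : Set G) ≤ Subgroup.normalizer ((A ⊔ MM p L : Subgroup G) : Set G) :=
  fun _ hg => centralizer_le D (Subgroup.mem_centralizer_singleton_iff.1 hg)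

/-- **LEMMA (Q)**: every conjugate of `z` in `Q` is `y z y⁻¹` with `y ∈ N_G(G0)`. -/
theorem hadj (D : At p q i h L T n X)
    (hall : ∀ (A'' : Subgroup G) (a'' : G) (p' : Pair Q z A'' a''), ∃ w' : ℕ,
      Cfg (p'.H.subtype : p'.H →* (p'.lz.V ≃ₗ[ZMod 2] p'.lz.V)) p'.lz.b p'.lz.q p'.va p'.D (p'.X.subgroupOf p'.H) w')
    (g : G) (hg : g * z * g⁻¹ ∈ Q) :
    ∃ y ∈ Subgroup.normalizer ((A ⊔ MM p L : Subgroup G) : Set G), g * z * g⁻¹ = y * z * y⁻¹ := by
  by_cases hne : g * z * g⁻¹ = z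
  · exact ⟨1, one_mem _, by rw [hne]; group⟩
  have p' := pair_of_conj p.lz hg hne
  obtain ⟨w', C'⟩ := hall _ _ p'
  obtain ⟨S, -, hS⟩ := C'.exists_syl
  set b := g * z * g⁻¹ with hb
  -- a conjugate of `b` under `C_G(z)` is `a` modulo `z`
  obtain ⟨k, hk⟩ := exists_of_syl D S (v := p'.va) p'.va_ne fun s hs => hS hs
  obtain ⟨c, hc⟩ := aH_surj p k
  have h1 : p.lz.pr (p.lz.conjQ c ⟨b, hg⟩) = p.lz.pr ⟨a, p.a_mem⟩ := by
    rw [← p.lz.act_pr]
    have h2 : ((aH p c : p.H) : p.lz.V ≃ₗ[ZMod 2] p.lz.V) p'.va = p.va := by rw [hc]; exact hk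
    exact h2
  rw [p.lz.pr_eq_pr, p.lz.conjQ_coe] at h1
  have hcz := Subgroup.mem_centralizer_singleton_iff.1 c.2
  -- `y₁ b y₁⁻¹ = a` with `y₁ ∈ C_G(z)`
  obtain ⟨y₁, hy₁, e₁⟩ : ∃ y₁ : G, y₁ * z = z * y₁ ∧ y₁ * b * y₁⁻¹ = a := by
    rcases h1 with h1 | h1
    · exact ⟨c, hcz, h1⟩
    · obtain ⟨y, hy, e⟩ := exists_conj_mul p
      refine ⟨y * c, ?_, ?_⟩
      · rw [mul_assoc, hcz, ← mul_assoc, p.lz.comm_z y hy, mul_assoc]
      · calc y * c * b * (y * c)⁻¹ = y * (c * b * (c : G)⁻¹) * y⁻¹ := by group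
          _ = y * (a * z) * y⁻¹ := by rw [h1]
          _ = a := e
  obtain ⟨y₂, hy₂, e₂⟩ := exists_conj p
  refine ⟨y₁⁻¹ * y₂, mul_mem (inv_mem (centralizer_le D hy₁)) ?_, ?_⟩
  · exact Subgroup.le_normalizer (sup_le_sup_left Q_le_MM A hy₂)
  · calc b = y₁⁻¹ * (y₁ * b * y₁⁻¹) * y₁ := by group
      _ = y₁⁻¹ * (y₂ * z * y₂⁻¹) * y₁ := by rw [e₁, e₂]
      _ = _ := by group

end Cfsg.Agent.Omega.EH3Close.QQ

end

section


/-!
# Root group data over the transposed Cartan matrix (piece D1 of helper805's #17442)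

`A' i j = A j i`, `D i > 0`, `D i * A i j = D j * A j i`. The diagonal map `Dl x = (D i x_i)` intertwines the two
geometric representations, `Dl (w α_i) = D i • (w α_i)'`. So `x = w α_i ↔ y = (w α_i)'` (`Dual x y`) is a bijection of
the roots, compatible with signs, supports and the rational cones `Btwn`.

* `dX X y` : the root groups re-indexed; `dX_rep : dX X (w α_i)' = X (w α_i)`, `dX_sr`, `dX_neg_sr`;
* `rgd` : `RGD cs h p T n X → RGD cs h' p T n (dX X)`;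
* `Sup_pos`, `Sup_posNe`, `B_eq`, `UJ_eq`, `VJ_eq`, `GG_eq`, `LJ_eq`, `PJ_eq` : the standard subgroups do not change.
-/

set_option autoImplicit false
set_option linter.unusedSectionVars false

namespace Cfsg.Agent.Omega.EH3Close.DualRgd

open CoxeterSystem Cfsg.Agent.ChevalleyStructure.CoxeterGeom Cfsg.Agent.Tits.Roots Cfsg.Agent.Tits.Core
  Cfsg.Agent.Tits.RootComb Cfsg.Agent.Nodes.Comb Cfsg.Agent.Nodes.Reps Cfsg.Agent.Nodes.BNOf
  Cfsg.Agent.Nodes.StabComb Cfsg.Agent.Nodes.Bruhat Cfsg.Agent.Nodes.LeviDec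
open scoped commutatorElement

variable {I W Y : Type*} [Fintype I] [DecidableEq I] [Group W] [Group Y] {M : CoxeterMatrix I}
  (cs : CoxeterSystem M W) {A A' : I → I → ℤ} (h : IsCartan M A) (h' : IsCartan M A')

/-- the scaling data -/
structure Sc (A A' : I → I → ℤ) (D : I → ℤ) : Prop where
  pos : ∀ i, 0 < D i
  sym : ∀ i j, D i * A i j = D j * A j i
  tr : ∀ i j, A' i j = A j i

omit [Fintype I] [DecidableEq I] in
/-- the transposed Cartan matrix is a Cartan matrix of the same type -/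
theorem Sc.isCartan {D : I → ℤ} (S : Sc A A' D) (h : IsCartan M A) : IsCartan M A' where
  diag i := by rw [S.tr]; exact h.diag i
  rel i j hij := by
    have h1 := h.rel j i hij.symm
    rw [M.symmetric j i] at h1
    rw [S.tr, S.tr]
    exact h1

/-- the diagonal map -/
def Dl (D : I → ℤ) (x : I → ℤ) : I → ℤ := fun i => D i * x i

section lin

variable {D : I → ℤ}

omit [Fintype I] [DecidableEq I] in
theorem Dl_smul (c : ℤ) (x : I → ℤ) : Dl D (c • x) = c • Dl D x := by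
  funext i
  simp only [Dl, Pi.smul_apply, smul_eq_mul]
  ring

omit [Fintype I] [DecidableEq I] in
theorem Dl_add (x y : I → ℤ) : Dl D (x + y) = Dl D x + Dl D y := by
  funext i
  simp only [Dl, Pi.add_apply]
  ring

omit [Fintype I] in
theorem Dl_sr (i : I) : Dl D (sr i) = D i • sr i := by
  funext k
  simp only [Dl, Pi.smul_apply, smul_eq_mul]
  by_cases hk : k = i
  · subst hk; rfl
  · rw [sr_ne hk]; ring

omit [Fintype I] [DecidableEq I] in
theorem Dl_inj (hD : ∀ i, 0 < D i) {x y : I → ℤ} (e : Dl D x = Dl D y) : x = y := by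
  funext i
  have h1 := congrFun e i
  exact mul_left_cancel₀ (hD i).ne' h1

end lin

variable {D : I → ℤ} (S : Sc A A' D)

include S

theorem Dl_refl (i : I) (x : I → ℤ) :
    Dl D (rep cs h (cs.simple i) x) = rep cs h' (cs.simple i) (Dl D x) := by
  rw [rep_simple_eq, rep_simple_eq]
  have h1 : D i * pairing A i x = pairing A' i (Dl D x) := by
    unfold pairing Dl
    rw [Finset.mul_sum]
    refine Finset.sum_congr rfl fun k _ => ?_
    rw [S.tr, ← mul_assoc, S.sym i k]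
    ring
  funext k
  simp only [Dl, Pi.sub_apply, Pi.smul_apply, smul_eq_mul] at h1 ⊢
  rw [← h1]
  by_cases hk : k = i
  · subst hk; rw [sr_self]; ring
  · rw [sr_ne hk]; ring

theorem Dl_rep (w : W) (x : I → ℤ) : Dl D (rep cs h w x) = rep cs h' w (Dl D x) := by
  obtain ⟨ω, rfl⟩ := cs.wordProd_surjective w
  induction ω generalizing x with
  | nil => rw [wordProd_nil, map_one, map_one, Module.End.one_apply, Module.End.one_apply]
  | cons i ω ih => rw [wordProd_cons, rep_mul_apply, Dl_refl cs h h' S, ih, ← rep_mul_apply]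

theorem Dl_rep_sr (w : W) (i : I) : Dl D (rep cs h w (sr i)) = D i • rep cs h' w (sr i) := by
  rw [Dl_rep cs h h' S, Dl_sr, map_smul]

omit S in
/-- proportional roots are equal -/
theorem eq_of_prop {x y : I → ℤ} (hx : IsRoot cs h x) (hy : IsRoot cs h y) {a b : ℤ} (ha : 0 < a) (hb : 0 < b)
    (e : a • x = b • y) : x = y := by
  obtain ⟨w, i, rfl⟩ := hx
  have h1 := congrArg (rep cs h w⁻¹) e
  rw [map_smul, map_smul, rep_inv_apply] at h1
  have hz := hy.act w⁻¹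
  set z := rep cs h w⁻¹ y with hzd
  have h2 : ∀ k, k ≠ i → z k = 0 := by
    intro k hk
    have h3 := congrFun h1 k
    rw [Pi.smul_apply, Pi.smul_apply, smul_eq_mul, smul_eq_mul, sr_ne hk, mul_zero] at h3
    rcases mul_eq_zero.1 h3.symm with h4 | h4
    · exact absurd h4 hb.ne'
    · exact h4
  have h3 : 0 ≤ z := by
    intro k
    by_cases hk : k = i
    · subst hk
      have h4 := congrFun h1 k
      rw [Pi.smul_apply, Pi.smul_apply, smul_eq_mul, smul_eq_mul, sr_self, mul_one] at h4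
      rw [h4] at ha
      exact (pos_of_mul_pos_right ha hb.le).le
    · rw [h2 k hk]; exact le_refl _
  have h4 := hz.eq_sr h3 i h2
  rw [← h4, hzd, rep_apply_inv]

/-- corresponding roots -/
def Dual (x y : I → ℤ) : Prop := ∃ w i, x = rep cs h w (sr i) ∧ y = rep cs h' w (sr i)

omit S

theorem Dual.mk (w : W) (i : I) : Dual cs h h' (rep cs h w (sr i)) (rep cs h' w (sr i)) := ⟨w, i, rfl, rfl⟩

variable {cs h h'}

theorem Dual.left {x y : I → ℤ} (d : Dual cs h h' x y) : IsRoot cs h x := by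
  obtain ⟨w, i, rfl, -⟩ := d; exact ⟨w, i, rfl⟩

theorem Dual.right {x y : I → ℤ} (d : Dual cs h h' x y) : IsRoot cs h' y := by
  obtain ⟨w, i, -, rfl⟩ := d; exact ⟨w, i, rfl⟩

theorem Dual.act {x y : I → ℤ} (d : Dual cs h h' x y) (w : W) : Dual cs h h' (rep cs h w x) (rep cs h' w y) := by
  obtain ⟨v, i, rfl, rfl⟩ := d
  exact ⟨w * v, i, by rw [rep_mul_apply], by rw [rep_mul_apply]⟩

theorem Dual.neg {x y : I → ℤ} (d : Dual cs h h' x y) : Dual cs h h' (-x) (-y) := by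
  obtain ⟨v, i, rfl, rfl⟩ := d
  exact ⟨v * cs.simple i, i, by rw [rep_mul_apply, rep_simple_sr, map_neg],
    by rw [rep_mul_apply, rep_simple_sr, map_neg]⟩

theorem dual_sr (i : I) : Dual cs h h' (sr i) (sr i) :=
  ⟨1, i, by rw [map_one, Module.End.one_apply], by rw [map_one, Module.End.one_apply]⟩

theorem exists_dual_left {x : I → ℤ} (hx : IsRoot cs h x) : ∃ y, Dual cs h h' x y := by
  obtain ⟨w, i, rfl⟩ := hx
  exact ⟨_, w, i, rfl, rfl⟩

theorem exists_dual_right {y : I → ℤ} (hy : IsRoot cs h' y) : ∃ x, Dual cs h h' x y := by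
  obtain ⟨w, i, rfl⟩ := hy
  exact ⟨_, w, i, rfl, rfl⟩

include S in
theorem Dual.scale {x y : I → ℤ} (d : Dual cs h h' x y) : ∃ c : ℤ, 0 < c ∧ Dl D x = c • y := by
  obtain ⟨w, i, rfl, rfl⟩ := d
  exact ⟨D i, S.pos i, Dl_rep_sr cs h h' S w i⟩

include S in
theorem Dual.unique_right {x y z : I → ℤ} (d : Dual cs h h' x y) (e : Dual cs h h' x z) : y = z := by
  obtain ⟨a, ha, h1⟩ := d.scale S
  obtain ⟨b, hb, h2⟩ := e.scale S
  exact eq_of_prop cs h' d.right e.right ha hb (h1.symm.trans h2)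

include S in
theorem Dual.unique_left {x y z : I → ℤ} (d : Dual cs h h' x y) (e : Dual cs h h' z y) : x = z := by
  obtain ⟨a, ha, h1⟩ := d.scale S
  obtain ⟨b, hb, h2⟩ := e.scale S
  refine eq_of_prop cs h d.left e.left hb ha (Dl_inj S.pos ?_)
  rw [Dl_smul, Dl_smul, h1, h2, smul_smul, smul_smul, mul_comm]

include S in
theorem Dual.apply_pos {x y : I → ℤ} (d : Dual cs h h' x y) (k : I) : 0 < x k ↔ 0 < y k := by
  obtain ⟨c, hc, h1⟩ := d.scale S
  have h2 : D k * x k = c * y k := congrFun h1 k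
  have hD := S.pos k
  constructor
  · intro h3
    have h4 : 0 < c * y k := h2 ▸ mul_pos hD h3
    exact pos_of_mul_pos_right h4 hc.le
  · intro h3
    have h4 : 0 < D k * x k := h2 ▸ mul_pos hc h3
    exact pos_of_mul_pos_right h4 hD.le

include S in
theorem Dual.apply_neg {x y : I → ℤ} (d : Dual cs h h' x y) (k : I) : x k < 0 ↔ y k < 0 := by
  have := d.neg.apply_pos S k
  rw [Pi.neg_apply, Pi.neg_apply, neg_pos, neg_pos] at this
  exact this

include S in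
theorem Dual.nonneg {x y : I → ℤ} (d : Dual cs h h' x y) : 0 ≤ x ↔ 0 ≤ y := by
  constructor
  · intro h0 k
    exact not_lt.1 fun h1 => absurd (h0 k) (not_le.2 ((d.apply_neg S k).2 h1))
  · intro h0 k
    exact not_lt.1 fun h1 => absurd (h0 k) (not_le.2 ((d.apply_neg S k).1 h1))

include S in
theorem Dual.apply_zero {x y : I → ℤ} (d : Dual cs h h' x y) (k : I) : x k = 0 ↔ y k = 0 := by
  have h1 := d.apply_pos S k
  have h2 := d.apply_neg S k
  constructor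
  · intro h0
    rcases lt_trichotomy (y k) 0 with h3 | h3 | h3
    · exact absurd (h2.2 h3) (by rw [h0]; exact lt_irrefl _)
    · exact h3
    · exact absurd (h1.2 h3) (by rw [h0]; exact lt_irrefl _)
  · intro h0
    rcases lt_trichotomy (x k) 0 with h3 | h3 | h3
    · exact absurd (h2.1 h3) (by rw [h0]; exact lt_irrefl _)
    · exact h3
    · exact absurd (h1.1 h3) (by rw [h0]; exact lt_irrefl _)

include S in
theorem Dual.eq_sr {x y : I → ℤ} (d : Dual cs h h' x y) (i : I) : x = sr i ↔ y = sr i := by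
  constructor
  · rintro rfl; exact d.unique_right S (dual_sr i)
  · rintro rfl; exact d.unique_left S (dual_sr i)

include S in
theorem Dual.btwn {x y z x' y' z' : I → ℤ} (hx : Dual cs h h' x x') (hy : Dual cs h h' y y')
    (hz : Dual cs h h' z z') (b : Btwn cs h x y z) : Btwn cs h' x' y' z' := by
  obtain ⟨-, m, a, b, hm, ha, hb, e⟩ := b
  obtain ⟨cx, hcx, ex⟩ := hx.scale S
  obtain ⟨cy, hcy, ey⟩ := hy.scale S
  obtain ⟨cz, hcz, ez⟩ := hz.scale S
  refine ⟨hz.right, m * cz, a * cx, b * cy, mul_pos hm hcz, mul_pos ha hcx, mul_pos hb hcy, ?_⟩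
  have := congrArg (Dl D) e
  rw [Dl_smul, Dl_add, Dl_smul, Dl_smul, ex, ey, ez, smul_smul, smul_smul, smul_smul] at this
  exact this

/-! ### the data -/

variable (cs h h')

/-- the root groups, indexed by the roots of the transposed Cartan matrix -/
def dX (X : (I → ℤ) → Subgroup Y) (y : I → ℤ) : Subgroup Y := ⨆ x : {x : I → ℤ // Dual cs h h' x y}, X x.1

variable {cs h h'} {X : (I → ℤ) → Subgroup Y}

include S in
theorem dX_eq {x y : I → ℤ} (d : Dual cs h h' x y) : dX cs h h' X y = X x := by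
  unfold dX
  apply le_antisymm
  · refine iSup_le ?_
    rintro ⟨z, hz⟩
    have e : z = x := hz.unique_left S d
    subst e
    exact le_refl _
  · exact le_iSup (fun x : {x : I → ℤ // Dual cs h h' x y} => X x.1) ⟨x, d⟩

include S in
theorem dX_rep (w : W) (i : I) : dX cs h h' X (rep cs h' w (sr i)) = X (rep cs h w (sr i)) :=
  dX_eq S (Dual.mk cs h h' w i)

include S in
theorem dX_sr (i : I) : dX cs h h' X (sr i) = X (sr i) := dX_eq S (dual_sr i)

include S in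
theorem dX_neg_sr (i : I) : dX cs h h' X (-sr i) = X (-sr i) := dX_eq S (dual_sr i).neg

include S in
theorem btw_le {x y x' y' : I → ℤ} (hx : Dual cs h h' x x') (hy : Dual cs h h' y y') :
    btw cs h X x y ≤ btw cs h' (dX cs h h' X) x' y' := by
  unfold Cfsg.Agent.Nodes.Reps.btw
  refine iSup_le ?_
  rintro ⟨z, hz⟩
  obtain ⟨z', hz'⟩ := exists_dual_left (h' := h') hz.1
  have h1 := Dual.btwn S hx hy hz' hz
  have h2 : X z = dX cs h h' X z' := (dX_eq S hz').symm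
  change X z ≤ _
  rw [h2]
  exact le_btw_of h1

variable {p : ℕ} {T : Subgroup Y} {n : I → Y}

include S in
/-- **The root group data over the transposed Cartan matrix.** -/
theorem rgd (R : RGD cs h p T n X) : RGD cs h' p T n (dX cs h h' X) where
  nsys := R.nsys
  conj i y hy := by
    obtain ⟨x, d⟩ := exists_dual_right (h := h) hy
    rw [dX_eq S d, R.conj i x d.left, dX_eq S (d.act (cs.simple i))]
  tor y hy t ht := by
    obtain ⟨x, d⟩ := exists_dual_right (h := h) hy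
    rw [dX_eq S d, R.tor x d.left t ht]
  comm y₁ y₂ hy₁ hy₂ hne hne' a ha b hb := by
    obtain ⟨x₁, d₁⟩ := exists_dual_right (h := h) hy₁
    obtain ⟨x₂, d₂⟩ := exists_dual_right (h := h) hy₂
    rw [dX_eq S d₁] at ha
    rw [dX_eq S d₂] at hb
    refine btw_le S d₁ d₂ (R.comm x₁ x₂ d₁.left d₂.left ?_ ?_ a ha b hb)
    · rintro rfl; exact hne (d₁.unique_right S d₂)
    · rintro rfl; exact hne' (d₁.unique_right S d₂.neg)
  rk1 i u hu hu1 := by
    rw [dX_neg_sr S] at hu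
    rw [dX_sr S]
    exact R.rk1 i u hu hu1
  pgrp i := by rw [dX_sr S]; exact R.pgrp i
  notp i := by rw [dX_sr S, dX_neg_sr S]; exact R.notp i
  tcop := R.tcop

/-! ### the standard subgroups -/

include S in
theorem Sup_eq {P P' : Set (I → ℤ)} (h1 : ∀ x ∈ P, IsRoot cs h x) (h2 : ∀ y ∈ P', IsRoot cs h' y)
    (h3 : ∀ x y, Dual cs h h' x y → (x ∈ P ↔ y ∈ P')) : RGD.Sup (dX cs h h' X) P' = RGD.Sup X P := by
  apply le_antisymm
  · refine RGD.Sup_le fun y hy => ?_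
    obtain ⟨x, d⟩ := exists_dual_right (h := h) (h2 y hy)
    rw [dX_eq S d]
    exact RGD.le_Sup ((h3 x y d).2 hy)
  · refine RGD.Sup_le fun x hx => ?_
    obtain ⟨y, d⟩ := exists_dual_left (h' := h') (h1 x hx)
    rw [← dX_eq (X := X) S d]
    exact RGD.le_Sup ((h3 x y d).1 hx)

include S in
theorem Sup_pos : RGD.Sup (dX cs h h' X) (RGD.Pos cs h') = RGD.Sup X (RGD.Pos cs h) :=
  Sup_eq S (fun _ hx => hx.1) (fun _ hy => hy.1) fun _ _ d =>
    ⟨fun hx => ⟨d.right, (d.nonneg S).1 hx.2⟩, fun hy => ⟨d.left, (d.nonneg S).2 hy.2⟩⟩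

include S in
theorem Sup_posNe (i : I) :
    RGD.Sup (dX cs h h' X) (RGD.PosNe cs h' i) = RGD.Sup X (RGD.PosNe cs h i) :=
  Sup_eq S (fun _ hx => hx.1) (fun _ hy => hy.1) fun _ _ d =>
    ⟨fun hx => ⟨d.right, (d.nonneg S).1 hx.2.1, fun e => hx.2.2 ((d.eq_sr S i).2 e)⟩,
      fun hy => ⟨d.left, (d.nonneg S).2 hy.2.1, fun e => hy.2.2 ((d.eq_sr S i).1 e)⟩⟩

include S in
theorem B_eq : RGD.B cs h' T (dX cs h h' X) = RGD.B cs h T X := by
  unfold RGD.B; rw [Sup_pos S]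

include S in
theorem GG_eq : GG cs h' T (dX cs h h' X) = GG cs h T X := by
  unfold GG
  rw [Sup_eq S (P := {x | IsRoot cs h x}) (P' := {y | IsRoot cs h' y}) (fun _ hx => hx) (fun _ hy => hy)
    fun _ _ d => ⟨fun _ => d.right, fun _ => d.left⟩]

include S in
theorem UJ_eq (J : Set I) : UJ cs h' (dX cs h h' X) J = UJ cs h X J :=
  Sup_eq S (fun _ hx => hx.1) (fun _ hy => hy.1) fun _ _ d =>
    ⟨fun hx => ⟨d.right, (d.nonneg S).1 hx.2.1, fun k hk => (d.apply_zero S k).1 (hx.2.2 k hk)⟩,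
      fun hy => ⟨d.left, (d.nonneg S).2 hy.2.1, fun k hk => (d.apply_zero S k).2 (hy.2.2 k hk)⟩⟩

include S in
theorem BJ_eq (J : Set I) : BJ cs h' T (dX cs h h' X) J = BJ cs h T X J := by
  unfold BJ; rw [UJ_eq S]

include S in
theorem VJ_eq (J : Set I) : VJ cs h' (dX cs h h' X) J = VJ cs h X J :=
  Sup_eq S (fun _ hx => hx.1) (fun _ hy => hy.1) fun _ _ d =>
    ⟨fun hx => ⟨d.right, (d.nonneg S).1 hx.2.1, hx.2.2.imp fun k hk => ⟨hk.1, (d.apply_pos S k).1 hk.2⟩⟩,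
      fun hy => ⟨d.left, (d.nonneg S).2 hy.2.1, hy.2.2.imp fun k hk => ⟨hk.1, (d.apply_pos S k).2 hk.2⟩⟩⟩

include S in
theorem LJ_eq (J : Set I) : LJ cs h' T (dX cs h h' X) J = LJ cs h T X J := by
  unfold LJ
  rw [Sup_eq S (P := RootsJ cs h J) (P' := RootsJ cs h' J) (fun _ hx => hx.1) (fun _ hy => hy.1) fun _ _ d =>
    ⟨fun hx => ⟨d.right, fun k hk => (d.apply_zero S k).1 (hx.2 k hk)⟩,
      fun hy => ⟨d.left, fun k hk => (d.apply_zero S k).2 (hy.2 k hk)⟩⟩]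

include S in
theorem PJ_eq (J : Set I) : PJ cs h' T (dX cs h h' X) J = PJ cs h T X J := by
  unfold PJ; rw [LJ_eq S, VJ_eq S]

end Cfsg.Agent.Omega.EH3Close.DualRgd

end

section


/-!
# `B₃` and `C₃` are the same for a root group datum (piece D1 of helper805's #17442)

* `modOf` : `Star.Mod` over the transposed Cartan matrix;
* `sc_B3` : the scaling data from `AB3` to `AC3`;
* `to_C3` : WLOG the Cartan matrix of type `B 3` is `AC3` (nodes `0, 1` short, node `2` long).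
-/

set_option autoImplicit false

namespace Cfsg.Agent.Omega.EH3Close.DualRgd

open CoxeterSystem Cfsg.Agent.ChevalleyStructure.CoxeterGeom Cfsg.Agent.Tits.Roots Cfsg.Agent.Nodes.Reps
  Cfsg.Agent.Nodes.BNOf Cfsg.Agent.Nodes.StabComb Cfsg.Agent.Nodes.Bruhat Cfsg.Agent.Nodes.LeviDec
  Cfsg.Agent.Omega.EH3Close.Roots

variable {I W Y V : Type*} [Fintype I] [DecidableEq I] [Group W] [Group Y] [AddCommGroup V] [Module (ZMod 2) V]
  {M : CoxeterMatrix I} {cs : CoxeterSystem M W} {A A' : I → I → ℤ} {h : IsCartan M A} {h' : IsCartan M A'}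
  {T : Subgroup Y} {n : I → Y} {X : (I → ℤ) → Subgroup Y} {ρ : Y →* (V ≃ₗ[ZMod 2] V)} {a : V} {i : I}

theorem modOf {D : I → ℤ} (S : Sc A A' D) (m : Star.Mod cs h T n X ρ a i) :
    Star.Mod cs h' T n (dX cs h h' X) ρ a i where
  rgd := rgd S m.rgd
  ne := m.ne
  fixB g hg := m.fixB g (by rwa [B_eq S] at hg)
  fixn := m.fixn
  two := by rw [dX_sr S]; exact m.two
  move := m.move
  cen v hv := m.cen v (by rwa [Sup_pos S] at hv)

theorem sc_B3 : Sc AB3 AC3 ![2, 2, 1] where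
  pos := by decide
  sym := by decide
  tr := by decide

/-- WLOG the Cartan matrix is `AC3`. -/
theorem to_C3 {W : Type*} [Group W] {cs : CoxeterSystem (CoxeterMatrix.B 3) W} {A : Fin 3 → Fin 3 → ℤ}
    {h : IsCartan (CoxeterMatrix.B 3) A} {T : Subgroup Y} {n : Fin 3 → Y} {X : (Fin 3 → ℤ) → Subgroup Y}
    {ρ : Y →* (V ≃ₗ[ZMod 2] V)} {a : V} {i : Fin 3} (m : Star.Mod cs h T n X ρ a i) :
    ∃ (h' : IsCartan (CoxeterMatrix.B 3) AC3) (X' : (Fin 3 → ℤ) → Subgroup Y), Star.Mod cs h' T n X' ρ a i ∧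
      (∀ j, X' (sr j) = X (sr j)) ∧ RGD.Sup X' (RGD.Pos cs h') = RGD.Sup X (RGD.Pos cs h) ∧
      (∀ J, VJ cs h' X' J = VJ cs h X J) ∧ (∀ J, PJ cs h' T X' J = PJ cs h T X J) := by
  rcases Numb.cartan_B3 h with rfl | rfl
  · have h' : IsCartan (CoxeterMatrix.B 3) AC3 := sc_B3.isCartan h
    exact ⟨h', dX cs h h' X, modOf sc_B3 m, fun j => dX_sr sc_B3 j, Sup_pos sc_B3, fun J => VJ_eq sc_B3 J,
      fun J => PJ_eq sc_B3 J⟩
  · exact ⟨h, X, m, fun _ => rfl, rfl, fun _ => rfl, fun _ => rfl⟩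

end Cfsg.Agent.Omega.EH3Close.DualRgd

end
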