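import Cfsg.Agent.Omega.EH3Close.NoFourCfg
import Cfsg.Agent.Mrg.Omega.EH3Close.LocSL
import Cfsg.Agent.Mrg.Omega.EH3Close.Numb
import Cfsg.Agent.Mrg.Nodes.RGDAllP
import Cfsg.Agent.KFacts.RgdBorelTits
import Cfsg.Agent.Nodes.NormX


/-!
# EH3 END: no involution `c` with `|[V, c]| = 4` in the rows `D₆`, `E₇` (helper227)

* `isRoot_of_mem` : the vectors of a `PosRoots` list are roots;
* `two_comm` : `c ∈ U` outside `V_J`, `J = {i}ᶜ`, has two different commutators `≠ 1` with elements of `V_J`;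
* `eq_top` : `L = ⊤` if the only diagram symmetry fixing `i` is `1` and all orders are `2`;
* `no_four` : no involution `c` of `H` has `|[V, c]| = 4` (`w ≠ 10`).
-/

set_option autoImplicit false
set_option linter.unusedSectionVars false

namespace Cfsg.Agent.Omega.EH3Close.NoFour

open CoxeterSystem Cfsg.Agent.ChevalleyStructure.CoxeterGeom Cfsg.Agent.Tits.Roots Cfsg.Agent.Tits.Core
  Cfsg.Agent.Tits.RootComb Cfsg.Agent.Nodes.Comb Cfsg.Agent.Nodes.Reps Cfsg.Agent.Nodes.BNOf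
  Cfsg.Agent.Nodes.StabComb Cfsg.Agent.Nodes.Bruhat Cfsg.Agent.Nodes.LeviDec Cfsg.Agent.Nodes.Coroot
  Cfsg.Agent.ParSys.RootCount Cfsg.Agent.ParSys.RootExc Cfsg.Agent.KFacts.RgdDiag
  Cfsg.Agent.KFacts.RgdSL Cfsg.Agent.Omega.EH3Close.LeadU Cfsg.Agent.Omega.EH3Close.RgdLead
  Cfsg.Agent.Omega.EH3Close.Roots Cfsg.Agent.Omega.EH3Close.LocSL Cfsg.Agent.Omega.EH3Close.Numb
  Cfsg.Agent.Omega.EH3.Kf.Odd Cfsg.Agent.Omega.EH3.Kf.Sym Cfsg.Agent.Omega.EH3.Kf.Goal
open Cfsg.Agent.LieRecognition.BNCox (cA)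
open scoped commutatorElement

/-! ### the list consists of roots -/

section

variable {I W : Type*} [Fintype I] [DecidableEq I] [Group W] {M : CoxeterMatrix I}
  {cs : CoxeterSystem M W} {A : I → I → ℤ} {h : IsCartan M A}

theorem isRoot_of_mem [Finite W] {Rt : Finset (I → ℤ)} (hR : PosRoots A Rt) {v : I → ℤ} (hv : v ∈ Rt) :
    IsRoot cs h v := by
  have := Fintype.ofFinite W
  have key : ∀ N : ℕ, ∀ v ∈ Rt, ∑ k, v k ≤ N → IsRoot cs h v := by
    intro N
    induction N with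
    | zero =>
      intro v hv hN
      exfalso
      have h1 : ∀ k ∈ Finset.univ, (0 : ℤ) ≤ v k := fun k _ => hR.pos v hv k
      have h2 : ∑ k, v k = 0 := le_antisymm (by exact_mod_cast hN) (Finset.sum_nonneg h1)
      have h3 := (Finset.sum_eq_zero_iff_of_nonneg h1).1 h2
      have h4 : v = 0 := funext fun k => h3 k (Finset.mem_univ k)
      exact hR.ne (h4 ▸ hv)
    | succ N ih =>
      intro v hv hN
      by_cases hs : ∃ i, v = Pi.single i 1
      · obtain ⟨i, rfl⟩ := hs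
        exact isRoot_sr cs h i
      · push Not at hs
        have h1 : ∃ j, 0 < pairing A j v := by
          by_contra hcon
          push Not at hcon
          have h2 : 0 < form cs h v v := form_pos cs h fun h0 => hR.ne (h0 ▸ hv)
          have h3 : 2 * form cs h v v ≤ 0 := by
            rw [form_eq_sum cs h v v, Finset.mul_sum]
            refine Finset.sum_nonpos fun k _ => ?_
            have h4 := two_form_cpr cs h v (isRoot_sr cs h k)
            rw [cpr_sr] at h4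
            have h5 := form_pos cs h (sr_ne_zero k)
            have h6 : 2 * form cs h v (sr k) ≤ 0 := by
              rw [h4]
              exact mul_nonpos_of_nonpos_of_nonneg (hcon k) h5.le
            have h7 : 2 * (v k * form cs h v (sr k)) = v k * (2 * form cs h v (sr k)) := by ring
            rw [h7]
            exact mul_nonpos_of_nonneg_of_nonpos (hR.pos v hv k) h6
          omega
        obtain ⟨j, hj⟩ := h1
        have h2 := hR.perm j v hv (hs j)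
        have h3 : refl A j v = v - pairing A j v • sr j := by
          rw [← rep_simple cs h, rep_simple_eq]
        have h4 : ∑ k, refl A j v k = ∑ k, v k - pairing A j v := by
          rw [h3]
          simp only [Pi.sub_apply, Pi.smul_apply, smul_eq_mul, Finset.sum_sub_distrib, ← Finset.mul_sum]
          have h5 : ∑ k, (sr j : I → ℤ) k = 1 := by
            unfold sr
            rw [Finset.sum_pi_single']
            simp
          rw [h5, mul_one]
        have h5 := ih _ h2 (by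
          rw [h4]
          push_cast at hN
          omega)
        have h6 := h5.act (cs.simple j)
        rw [rep_simple, refl_refl h] at h6
        exact h6
  obtain ⟨N, hN⟩ := Int.eq_ofNat_of_zero_le (Finset.sum_nonneg fun k (_ : k ∈ Finset.univ) => hR.pos v hv k)
  exact key N v hv (by rw [hN])

end

theorem two_of_length {α : Type*} {l : List α} (hn : l.Nodup) (h : 2 ≤ l.length) : ∃ a ∈ l, ∃ b ∈ l, a ≠ b := by
  match l, hn, h with
  | a :: b :: l, hn, _ =>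
    refine ⟨a, List.mem_cons_self, b, List.mem_cons_of_mem _ List.mem_cons_self, ?_⟩
    rintro rfl
    exact (List.nodup_cons.1 hn).1 List.mem_cons_self

/-! ### two commutators -/

section Two

variable {k : ℕ} {W Y : Type*} [Group W] [Group Y] {M : CoxeterMatrix (Fin k)} {cs : CoxeterSystem M W}
  {A : Fin k → Fin k → ℤ} {h : IsCartan M A} {T : Subgroup Y} {n : Fin k → Y} {X : (Fin k → ℤ) → Subgroup Y}

/-- the roots `r` with `r i = 0` have two partners -/
def Par (cs : CoxeterSystem M W) (h : IsCartan M A) (i : Fin k) : Prop :=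
  ∀ r ∈ RGD.Pos cs h, r i = 0 → ∃ t ∈ RGD.Pos cs h, ∃ t' ∈ RGD.Pos cs h,
    t ≠ t' ∧ 0 < t i ∧ 0 < t' i ∧ cpr cs h r t = -1 ∧ cpr cs h r t' = -1

theorem par_of_list [Finite W] (hs : SL cs h) {L : List (Fin k → ℤ)} (hR : PosRoots A L.toFinset) (hn : L.Nodup)
    {i : Fin k} (hd : ∀ r ∈ L, r i = 0 →
      2 ≤ (L.filter fun t => 0 < t i ∧ ∑ j, t j * pairing A j r = -1).length) : Par cs h i := by
  intro r hr hr0
  obtain ⟨t, ht, t', ht', hne⟩ := two_of_length (hn.filter _) (hd r (List.mem_toFinset.1 (mem_of_pos hR hr)) hr0)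
  rw [List.mem_filter, decide_eq_true_eq] at ht ht'
  have hmem : ∀ {t}, t ∈ L → t ∈ RGD.Pos cs h := fun {t} ht =>
    ⟨isRoot_of_mem hR (List.mem_toFinset.2 ht), hR.pos t (List.mem_toFinset.2 ht)⟩
  refine ⟨t, hmem ht.1, t', hmem ht'.1, hne, ht.2.1, ht'.2.1, ?_, ?_⟩
  · rw [cpr_eq hs hr.1 (hmem ht.1).1, ht.2.2]
  · rw [cpr_eq hs hr.1 (hmem ht'.1).1, ht'.2.2]

theorem two_comm [Finite W] (R : RGD cs h 2 T n X) (hs : SL cs h) (h2 : ∀ j, Nat.card (X (sr j)) = 2) {i : Fin k}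
    (hp : Par cs h i) {c : Y} (hc : c ∈ RGD.Sup X (RGD.Pos cs h)) (hcJ : c ∉ VJ cs h X {i}ᶜ) :
    ∃ x ∈ VJ cs h X {i}ᶜ, ∃ y ∈ VJ cs h X {i}ᶜ, ⁅c, x⁆ ≠ 1 ∧ ⁅c, y⁆ ≠ 1 ∧ ⁅c, x⁆ ≠ ⁅c, y⁆ := by
  classical
  obtain ⟨g, cut, fn⟩ := exists_fn (cs := cs) (h := h) i
  have hab : ∀ x, IsRoot cs h x → ∀ a ∈ X x, ∀ b ∈ X x, a * b = b * a := fun x hx => (X_comm' R h2 hx).2
  have C := com R hs fn hab
  have hcU : c ∈ U (PF cs h) X g 0 := by
    have : RGD.Sup X (RGD.Pos cs h) ≤ U (PF cs h) X g 0 :=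
      RGD.Sup_le fun x hx => le_U (mem_PF.2 hx) (Nat.zero_le _)
    exact this hc
  have hc1 : c ≠ 1 := by
    rintro rfl
    exact hcJ (one_mem _)
  obtain ⟨K, hK⟩ := exists_U_eq_bot (PF cs h) X g
  obtain ⟨k, h3, h4⟩ : ∃ k, c ∈ U (PF cs h) X g k ∧ c ∉ U (PF cs h) X g (k + 1) := by
    by_contra hcon
    push Not at hcon
    have h5 : ∀ k, c ∈ U (PF cs h) X g k := by
      intro k
      induction k with
      | zero => exact hcU
      | succ k ih => exact hcon k ih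
    have h6 := h5 K
    rw [hK, Subgroup.mem_bot] at h6
    exact hc1 h6
  obtain ⟨r, hr, rfl⟩ : ∃ r ∈ PF cs h, g r = k := by
    by_contra hcon
    push Not at hcon
    rw [U_succ_eq hcon] at h3
    exact h4 h3
  have hr' := mem_PF.1 hr
  have hr0 : r i = 0 := by
    by_contra hne
    have h5 : 0 ≤ r i := hr'.2 i
    have h6 : cut ≤ g r := (fn.cut r hr').2 (by omega)
    apply hcJ
    have h7 : U (PF cs h) X g (g r) ≤ VJ cs h X {i}ᶜ := by
      refine U_le fun x hx hk => ?_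
      rw [mem_PF] at hx
      have h8 := (fn.cut x hx).1 (h6.trans hk)
      exact RGD.le_Sup (S := NotJ cs h {i}ᶜ) ⟨hx.1, hx.2, i, fun h0 => h0 rfl, by omega⟩
    exact h7 h3
  obtain ⟨b, hb, w, hw, e⟩ := C.exists_mul hr h3
  have hb1 : b ≠ 1 := by
    rintro rfl
    rw [one_mul] at e
    exact h4 (e ▸ hw)
  -- the commutator with an element of `X t`
  have key : ∀ t ∈ RGD.Pos cs h, 0 < t i → cpr cs h r t = -1 → ∃ x ∈ VJ cs h X {i}ᶜ,
      ⁅c, x⁆ ∈ U (PF cs h) X g (g r + g t) ∧ ⁅c, x⁆ ∉ U (PF cs h) X g (g r + g t + 1) := by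
    intro t ht hti htc
    obtain ⟨x, hx, hx1⟩ : ∃ x ∈ X t, x ≠ 1 := by
      by_contra hcon
      push Not at hcon
      have h5 := (Subgroup.eq_bot_iff_forall _).2 hcon
      have h6 := (X_comm' R h2 ht.1).1
      rw [h5, Subgroup.card_bot] at h6
      omega
    refine ⟨x, RGD.le_Sup (S := NotJ cs h {i}ᶜ) ⟨ht.1, ht.2, i, fun h0 => h0 rfl, hti⟩ hx,
      C.comm_mem h3 (le_U (mem_PF.2 ht) le_rfl hx), fun h5 => ?_⟩
    refine comm_not_mem R hs fn hr' ht htc hb hb1 hx hx1 ?_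
    rw [fn.add r hr' t ht]
    refine C.comm_lead (le_U hr le_rfl hb) (le_U (mem_PF.2 ht) le_rfl hx) hw (one_mem _) ?_
    rw [mul_one, ← e]
    exact h5
  obtain ⟨t, ht, t', ht', hne, ht0, ht0', htc, htc'⟩ := hp r hr' hr0
  have hg : g t ≠ g t' := fun h0 => hne (fn.inj t ht t' ht' h0)
  obtain ⟨x, hx, hx1, hx2⟩ := key t ht ht0 htc
  obtain ⟨y, hy, hy1, hy2⟩ := key t' ht' ht0' htc'
  refine ⟨x, hx, y, hy, fun h0 => hx2 (h0 ▸ one_mem _), fun h0 => hy2 (h0 ▸ one_mem _), fun h0 => ?_⟩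
  rcases lt_or_gt_of_ne hg with h5 | h5
  · exact hx2 (h0 ▸ U_anti (by omega) hy1)
  · exact hy2 (h0 ▸ U_anti (by omega) hx1)

end Two

theorem n_mem_PJ {I W Y : Type*} [Fintype I] [DecidableEq I] [Group W] [Group Y] {M : CoxeterMatrix I}
    {cs : CoxeterSystem M W} {A : I → I → ℤ} {h : IsCartan M A} {p : ℕ} {T : Subgroup Y} {n : I → Y}
    {X : (I → ℤ) → Subgroup Y} (R : RGD cs h p T n X) (i : I) : n i ∈ PJ cs h T X {i} := by
  obtain ⟨u, hu, hu1⟩ := exists_ne_one R i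
  have h1 : n i * u * (n i)⁻¹ ∈ X (-sr i) := by
    have := R.conj_mem (rp_simple cs R.nsys i) (isRoot_sr cs h i) hu
    rwa [rep_simple_sr] at this
  have h2 : n i * u * (n i)⁻¹ ≠ 1 := fun h3 => hu1 (mul_eq_left.1 (mul_inv_eq_one.1 h3))
  obtain ⟨a, ha, t, ht, b, hb, e⟩ := R.rk1 i _ h1 h2
  set v := n i * u * (n i)⁻¹ with hv
  have e1 : n i = t⁻¹ * a⁻¹ * v * b⁻¹ := by rw [e]; group
  have hX : X (sr i) ≤ PJ cs h T X {i} := by
    refine le_trans ?_ LJ_le_PJ
    refine le_trans (RGD.le_Sup (S := RootsJ cs h {i}) ⟨isRoot_sr cs h i, fun k hk => sr_ne hk⟩) le_sup_right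
  have hX' : X (-sr i) ≤ PJ cs h T X {i} := by
    refine le_trans ?_ LJ_le_PJ
    refine le_trans (RGD.le_Sup (S := RootsJ cs h {i}) ⟨(isRoot_sr cs h i).neg, fun k hk => ?_⟩) le_sup_right
    rw [Pi.neg_apply, sr_ne hk, neg_zero]
  have hT : T ≤ PJ cs h T X {i} := le_trans le_sup_left LJ_le_PJ
  rw [e1]
  exact mul_mem (mul_mem (mul_mem (inv_mem (hT ht)) (inv_mem (hX ha))) (hX' h1)) (inv_mem (hX hb))

/-! ### `L = ⊤` -/

section Top

variable {l : ℕ} {M : CoxeterMatrix (Fin l)} {A : Fin l → Fin l → ℤ} {h : IsCartan M A}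
  {H : Type*} [Group H] [Finite H] {L : Subgroup H} [L.Normal] {T : Subgroup L} {n : Fin l → L}
  {X : (Fin l → ℤ) → Subgroup L} {i : Fin l}

/-- the frame argument, with `U` -/
theorem exists_frame2 [Finite M.Group] (R : RGD M.toCoxeterSystem h 2 T n X)
    (hG : GG M.toCoxeterSystem h T X = ⊤) (g : H) :
    ∃ u : L, ∃ σ : Equiv.Perm (Fin l), Diag T X (cn L ((u : H) * g)) σ ∧
      KFacts.RgdAut.Fix (cn L ((u : H) * g)) (RGD.Sup X (RGD.Pos M.toCoxeterSystem h)) := by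
  have : Fact (Nat.Prime 2) := ⟨Nat.prime_two⟩
  obtain ⟨S, hS⟩ := (R.isPGroup_Upos (cs := M.toCoxeterSystem) (h := h)).exists_le_sylow
  have hSU : (S : Subgroup L) = RGD.Sup X (RGD.Pos M.toCoxeterSystem h) :=
    Nodes.NormalForm.eq_U_of_isPGroup R S.isPGroup' hS (by rw [hG]; exact le_top)
  let S' : Sylow 2 L := cn L g • S
  obtain ⟨l', hl⟩ := MulAction.exists_smul_eq L S' S
  have h1 : KFacts.RgdAut.Fix (cn L ((l' : H) * g)) (RGD.Sup X (RGD.Pos M.toCoxeterSystem h)) := by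
    rw [KFacts.RgdAut.fix_iff, cn_mul, cn_coe, ← hSU]
    have h2 : ((l' • S' : Sylow 2 L) : Subgroup L) = S := by rw [hl]
    rw [coe_smul_smul] at h2
    exact h2
  obtain ⟨u, hu, h2, h3, h4, h5, h6⟩ := KFacts.RgdAut.exists_frame R hG h1
  have e : cn L (((u * l' : L) : H) * g) = MulAut.conj u * cn L ((l' : H) * g) := by
    rw [Subgroup.coe_mul, mul_assoc, cn_mul, cn_coe]
  rw [← e] at h2 h4
  obtain ⟨σ, hσ⟩ := exists_diag R hG h2 h4
  exact ⟨u * l', σ, hσ, h2⟩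

/-- **`L = ⊤`** -/
theorem eq_top [Finite M.Group] {V : Type*} [AddCommGroup V] [Module (ZMod 2) V]
    {ρ : H →* (V ≃ₗ[ZMod 2] V)} {a : V} (hinj : Function.Injective ρ)
    (hirr : ∀ W : Submodule (ZMod 2) V, (∀ g, ∀ v ∈ W, ρ g v ∈ W) → W = ⊥ ∨ W = ⊤) (ha : a ≠ 0)
    (R : RGD M.toCoxeterSystem h 2 T n X) (hG : GG M.toCoxeterSystem h T X = ⊤)
    (hj : ∃ j, j ≠ i)
    (hfix : ∀ j, j ≠ i → ∀ g ∈ PJ M.toCoxeterSystem h T X {j}, ρ (g : H) a = a)
    (hq : ∀ j, Nat.card (X (sr j)) = 2)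
    (hcent : ∀ v, (∀ u ∈ RGD.Sup X (RGD.Pos M.toCoxeterSystem h), ρ (u : H) v = v) → v = 0 ∨ v = a)
    (hsym : ∀ σ : Equiv.Perm (Fin l), (∀ i j, M (σ i) (σ j) = M i j) → σ i = i → σ = 1) : L = ⊤ := by
  have : Fact (Nat.Prime 2) := ⟨Nat.prime_two⟩
  obtain ⟨j0, hj0⟩ := hj
  have hmul : ∀ (g k : H) (v : V), ρ (g * k) v = ρ g (ρ k v) := by
    intro g k v
    rw [map_mul]; rfl
  have hone : ∀ v : V, ρ 1 v = v := by
    intro v
    rw [map_one]; rfl
  have hinv : ∀ {g : H}, ρ g a = a → ρ g⁻¹ a = a := by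
    intro g hg
    conv_lhs => rw [← hg]
    rw [← hmul, inv_mul_cancel, hone]
  have hBa : ∀ u ∈ RGD.B M.toCoxeterSystem h T X, ρ (u : H) a = a := fun u hu => hfix j0 hj0 u (B_le_PJ hu)
  have hUa : ∀ u ∈ RGD.Sup X (RGD.Pos M.toCoxeterSystem h), ρ (u : H) a = a := fun u hu => hBa u (RGD.U_le_B hu)
  have hC : ∀ c : H, (∀ x ∈ (EH3.Kf.Idx.G1 M.toCoxeterSystem h X : Subgroup H), x * c = c * x) → c = 1 :=
    fun c hc => EH3.Kf.Idx.cent_G1 R hG hinj hirr ha hUa hcent hc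
  -- `n i` moves `a`
  have hni : ρ (n i : H) a ≠ a := by
    intro hni
    have hn : ∀ j, ρ (n j : H) a = a := by
      intro j
      by_cases hji : j = i
      · rw [hji]; exact hni
      · exact hfix j hji _ (n_mem_PJ R j)
    have hw : ∀ w : M.Group, ∃ g, Rp M.toCoxeterSystem R.nsys w g ∧ ρ (g : H) a = a := by
      intro w
      obtain ⟨ω, rfl⟩ := M.toCoxeterSystem.wordProd_surjective w
      induction ω with
      | nil => exact ⟨1, by rw [wordProd_nil]; exact rp_one, by rw [Subgroup.coe_one, hone]⟩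
      | cons j ω ih =>
        obtain ⟨g, hg, hga⟩ := ih
        refine ⟨n j * g, ?_, ?_⟩
        · rw [wordProd_cons]; exact (rp_simple M.toCoxeterSystem R.nsys j).mul hg
        · rw [Subgroup.coe_mul, hmul, hga, hn]
    let S : Subgroup L :=
      { carrier := {g | ρ (g : H) a = a}
        one_mem' := hone a
        mul_mem' := by
          intro g k (hg : ρ (g : H) a = a) (hk : ρ (k : H) a = a)
          show ρ ((g * k : L) : H) a = a
          rw [Subgroup.coe_mul, hmul, hk, hg]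
        inv_mem' := by
          intro g (hg : ρ (g : H) a = a)
          show ρ ((g⁻¹ : L) : H) a = a
          rw [Subgroup.coe_inv]
          exact hinv hg }
    have hS : GG M.toCoxeterSystem h T X ≤ S := by
      refine sup_le (fun t ht => hBa t (RGD.T_le_B ht)) ?_
      refine RGD.Sup_le ?_
      rintro _ ⟨w, j, rfl⟩ u hu
      obtain ⟨g, hg, hga⟩ := hw w
      have h1 : g⁻¹ * u * g ∈ X (sr j) := by
        have := R.conj_mem' hg ((isRoot_sr M.toCoxeterSystem h j).act w) hu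
        rwa [rep_inv_apply] at this
      have h2 : (g⁻¹ * u * g : L) ∈ S := hBa _ (RGD.X_le_B (isRoot_sr M.toCoxeterSystem h j) (sr_nonneg j) h1)
      have h3 : u = g * (g⁻¹ * u * g) * g⁻¹ := by group
      rw [h3]
      exact mul_mem (mul_mem hga h2) (inv_mem (show g ∈ S from hga))
    rw [hG] at hS
    let F : Submodule (ZMod 2) V :=
      { carrier := {v | ∀ x ∈ L, ρ x v = v}
        zero_mem' := fun x _ => map_zero _
        add_mem' := by
          intro v w hv hw x hx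
          show ρ x (v + w) = v + w
          rw [map_add, hv x hx, hw x hx]
        smul_mem' := by
          intro r v hv x hx
          show ρ x (r • v) = r • v
          rw [map_smul, hv x hx] }
    have haF : a ∈ F := fun x hx => hS (Subgroup.mem_top (⟨x, hx⟩ : L))
    have h1 := hirr F (by
      intro g v hv x hx
      have h2 := (inferInstance : L.Normal).conj_mem x hx g⁻¹
      rw [inv_inv] at h2
      have h3 : x * g = g * (g⁻¹ * x * g) := by group
      rw [← hmul, h3, hmul, hv _ h2])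
    rcases h1 with h1 | h1
    · rw [h1] at haF
      exact ha haF
    · obtain ⟨u, hu, hu1⟩ := exists_ne_one R i
      apply hu1
      apply Subtype.ext
      apply hinj
      ext v
      have h2 : v ∈ F := by rw [h1]; trivial
      have h3 := h2 (u : H) u.2
      rw [h3]
      show v = ρ ((1 : L) : H) v
      rw [Subgroup.coe_one, hone]
  rw [eq_top_iff]
  rintro g -
  obtain ⟨u, σ, hσ, hU⟩ := exists_frame2 R hG g
  -- `g' = u g` fixes `a`
  have hga : ρ ((u : H) * g) a = a := by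
    have h1 := hcent (ρ ((u : H) * g) a) (by
      intro x hx
      have h2 : (cn L ((u : H) * g))⁻¹ x ∈ RGD.Sup X (RGD.Pos M.toCoxeterSystem h) := hU.inv x |>.2 hx
      have h3 : (x : H) * ((u : H) * g) = ((u : H) * g) * (((cn L ((u : H) * g))⁻¹ x : L) : H) := by
        have h4 := cn_apply (L := L) ((u : H) * g) ((cn L ((u : H) * g))⁻¹ x)
        rw [MulAut.apply_inv_self] at h4
        rw [h4]; group
      rw [← hmul, h3, hmul, hUa _ h2])
    rcases h1 with h1 | h1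
    · exfalso
      apply ha
      apply (ρ ((u : H) * g)).injective
      rw [h1, map_zero]
    · exact h1
  have hσi : σ i = i := by
    by_contra hne
    apply hni
    have h1 : (n (σ i))⁻¹ * cn L ((u : H) * g) (n i) ∈ T :=
      (rp_simple M.toCoxeterSystem R.nsys (σ i)).unique (hσ.rp (R := R) i)
    have h2 : ρ ((cn L ((u : H) * g) (n i) : L) : H) a = a := by
      have h3 : cn L ((u : H) * g) (n i) = n (σ i) * ((n (σ i))⁻¹ * cn L ((u : H) * g) (n i)) := by group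
      rw [h3, Subgroup.coe_mul, hmul, hBa _ (RGD.T_le_B h1)]
      exact hfix (σ i) hne _ (n_mem_PJ R (σ i))
    rw [cn_apply, hmul, hmul, hinv hga] at h2
    have h3 : ρ ((u : H) * g) (ρ (n i : H) a) = ρ ((u : H) * g) a := by rw [h2, hga]
    exact (ρ ((u : H) * g)).injective h3
  have hσ1 := hsym σ (fun i j => Diag.matrix R hσ i j) hσi
  subst hσ1
  have h1 : (u : H) * g = 1 := EH3.Kf.Idx.eq_one_of_fix' R hC (mem_N1.2 hσ) fun i x hx =>
    EH3.Kf.Idx.fix_of_two (hq i) (mem_N1.2 hσ) hx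
  have h2 : g = (u : H)⁻¹ := eq_inv_of_mul_eq_one_right h1
  rw [h2]
  exact inv_mem u.2

end Top

/-! ### the rows -/

theorem symD' {i : Fin 6} (hi : i = 4 ∨ i = 5) (σ : Equiv.Perm (Fin 6))
    (hσ : ∀ i j, Nodes.TypeD.M 4 (σ i) (σ j) = Nodes.TypeD.M 4 i j) (h0 : σ i = i) : σ = 1 := by
  have h : ∀ i j, tD (σ i) (σ j) = tD i j := by
    intro i j
    rw [← tD_eq, ← tD_eq]
    exact hσ i j
  rcases keyD (σ 0) (σ 1) (by rw [h]; decide) (σ 2) (by rw [h]; decide) (by rw [h]; decide) (σ 3) (by rw [h]; decide)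
    (by rw [h]; decide) (σ 4) (by rw [h]; decide) (by rw [h]; decide) (σ 5) (by rw [h]; decide) (by rw [h]; decide)
    (by rw [h]; decide) with ⟨h0, h1, h2, h3, h4, h5⟩ | ⟨-, -, -, -, h4, h5⟩
  · ext i
    congr 1
    fin_cases i
    · exact h0
    · exact h1
    · exact h2
    · exact h3
    · exact h4
    · exact h5
  · exfalso
    rcases hi with rfl | rfl
    · rw [h4] at h0
      exact absurd h0 (by decide)
    · rw [h5] at h0
      exact absurd h0 (by decide)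

theorem par_D6 {W : Type*} [Group W] [Finite W] {cs : CoxeterSystem (Nodes.TypeD.M 4) W}
    {A : Fin 6 → Fin 6 → ℤ} {h : IsCartan (Nodes.TypeD.M 4) A} {i : Fin 6} (hi : i = 4 ∨ i = 5) :
    Par cs h i := by
  have e : A = AD6 := cartan_eq h isCartan_D6 ne_D6.1 ne_D6.2
  subst e
  have hs : SL cs h := fun _ _ hx hy => Nodes.SimplyLaced.cpr_symm cs h ne_D6.1 ne_D6.2 hx hy
  rcases hi with rfl | rfl
  · exact par_of_list hs posRoots_D6 nodup_D6 (by decide +kernel)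
  · exact par_of_list hs posRoots_D6 nodup_D6 (by decide +kernel)

theorem par_E7 {W : Type*} [Group W] [Finite W] {cs : CoxeterSystem CoxeterMatrix.E₇ W}
    {A : Fin 7 → Fin 7 → ℤ} {h : IsCartan CoxeterMatrix.E₇ A} : Par cs h 6 := by
  have e : A = AE7 := cartan_eq h isCartan_E7 ne_E7.1 ne_E7.2
  subst e
  have hs : SL cs h := fun _ _ hx hy => Nodes.SimplyLaced.cpr_symm cs h ne_E7.1 ne_E7.2 hx hy
  exact par_of_list hs posRoots_E7 (by decide +kernel) (by decide +kernel)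

section Row

variable {l : ℕ} {M : CoxeterMatrix (Fin l)} {A : Fin l → Fin l → ℤ} {h : IsCartan M A}
  {H V : Type*} [Group H] [AddCommGroup V] [Module (ZMod 2) V] {ρ : H →* (V ≃ₗ[ZMod 2] V)}
  {b : LinearMap.BilinForm (ZMod 2) V} {q' : V → ZMod 2} {a : V} {D : Submodule (ZMod 2) V} {X0 : Subgroup H}
  {w : ℕ} {L : Subgroup H} {T : Subgroup L} {n : Fin l → L} {X : (Fin l → ℤ) → Subgroup L} {i : Fin l}

/-- **No involution `c` with `|[V, c]| = 4`.** -/
theorem no_four_of [Finite M.Group] (C : EH3.Cfg ρ b q' a D X0 w) (hL : L.Normal)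
    (hX : X0 = (VJ M.toCoxeterSystem h X {i}ᶜ).map L.subtype)
    (R : RGD M.toCoxeterSystem h 2 T n X) (hG : GG M.toCoxeterSystem h T X = ⊤)
    (hj : ∃ j, j ≠ i)
    (hfix : ∀ j, j ≠ i → ∀ g ∈ PJ M.toCoxeterSystem h T X {j}, ρ (g : H) a = a)
    (hq : ∀ j, Nat.card (X (sr j)) = 2)
    (hcent : ∀ v, (∀ u ∈ RGD.Sup X (RGD.Pos M.toCoxeterSystem h), ρ (u : H) v = v) → v = 0 ∨ v = a)
    (hsym : ∀ σ : Equiv.Perm (Fin l), (∀ i j, M (σ i) (σ j) = M i j) → σ i = i → σ = 1)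
    (hs : SL M.toCoxeterSystem h) (hp : Par M.toCoxeterSystem h i)
    {c : H} (hc : c * c = 1) {W : Submodule (ZMod 2) V} (hW : ∀ x, x ∈ W ↔ ∃ u, ρ c u + u = x) :
    Nat.card W ≠ 4 := by
  classical
  intro h4
  have : Fact (Nat.Prime 2) := ⟨Nat.prime_two⟩
  have := C.finite_H
  obtain ⟨j0, hj0⟩ := hj
  have hUa : ∀ u ∈ RGD.Sup X (RGD.Pos M.toCoxeterSystem h), ρ (u : H) a = a := fun u hu =>
    hfix j0 hj0 u (B_le_PJ (RGD.U_le_B hu))
  have hLt := eq_top (i := i) C.inj C.irr C.a_ne R hG ⟨j0, hj0⟩ hfix hq hcent hsym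
  have hcL : c ∈ L := by rw [hLt]; exact Subgroup.mem_top c
  -- a conjugate of `c` in `U`
  have hc2 : (⟨c, hcL⟩ : L) * ⟨c, hcL⟩ = 1 := Subtype.ext hc
  have hpg : IsPGroup 2 (Subgroup.zpowers (⟨c, hcL⟩ : L)) := by
    refine IsPGroup.of_card (n := if (⟨c, hcL⟩ : L) = 1 then 0 else 1) ?_
    rw [Nat.card_zpowers]
    split_ifs with h0
    · rw [h0, orderOf_one, pow_zero]
    · rw [pow_one]
      exact orderOf_eq_prime (by rw [pow_two]; exact hc2) h0
  obtain ⟨g, hg⟩ := KFacts.RgdBorelTits.exists_conj_U hG hpg R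
  have hu := hg (Subgroup.mem_zpowers _)
  rw [mem_cj] at hu
  obtain ⟨u, hu'⟩ : ∃ u : L, u = g⁻¹ * ⟨c, hcL⟩ * g := ⟨_, rfl⟩
  rw [← hu'] at hu
  have hucoe : (u : H) = (g : H)⁻¹ * c * g := by rw [hu']; rfl
  have huu : (u : H) * u = 1 := by
    rw [hucoe]
    have : (g : H)⁻¹ * c * g * ((g : H)⁻¹ * c * g) = (g : H)⁻¹ * (c * c) * g := by group
    rw [this, hc]; group
  let W' : Submodule (ZMod 2) V := W.map (ρ (g : H)⁻¹ : V →ₗ[ZMod 2] V)
  have hW' : ∀ x, x ∈ W' ↔ ∃ v, ρ (u : H) v + v = x := by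
    intro x
    constructor
    · rintro ⟨y, hy, rfl⟩
      obtain ⟨v, rfl⟩ := (hW y).1 hy
      refine ⟨ρ (g : H)⁻¹ v, ?_⟩
      show _ = ρ (g : H)⁻¹ (ρ c v + v)
      rw [map_add, hucoe, ← C.ρ_mul, ← C.ρ_mul]
      congr 3
      group
    · rintro ⟨v, rfl⟩
      refine ⟨ρ c (ρ (g : H) v) + ρ (g : H) v, (hW _).2 ⟨_, rfl⟩, ?_⟩
      show ρ (g : H)⁻¹ (ρ c (ρ (g : H) v) + ρ (g : H) v) = _
      rw [map_add, C.ρ_inv_apply, hucoe, ← C.ρ_mul, ← C.ρ_mul]
  have h4' : Nat.card W' = 4 := by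
    rw [← h4]
    exact (Nat.card_congr (Submodule.equivMapOfInjective (ρ (g : H)⁻¹ : V →ₗ[ZMod 2] V)
      (ρ (g : H)⁻¹).injective W).toEquiv).symm
  have hua : ρ (u : H) a = a := hUa u hu
  by_cases hu1 : u = 1
  · have h5 : ∀ x ∈ W', x = 0 := by
      intro x hx
      obtain ⟨v, rfl⟩ := (hW' x).1 hx
      rw [hu1, Subgroup.coe_one, C.ρ_one, C.add_self]
    have h6 : W' = ⊥ := (Submodule.eq_bot_iff _).2 h5
    rw [h6, Nat.card_unique] at h4'
    omega
  · have hu1' : (u : H) ≠ 1 := fun h0 => hu1 (Subtype.ext h0)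
    have h5 := NoFourCfg.not_mem_X C huu hW' h4' hu1'
    have h6 : u ∉ VJ M.toCoxeterSystem h X {i}ᶜ := by
      intro h7
      apply h5
      rw [hX]
      exact ⟨u, h7, rfl⟩
    obtain ⟨x, hx, y, hy, h7, h8, h9⟩ := two_comm R hs hq hp hu h6
    have hx' : (x : H) ∈ X0 := by rw [hX]; exact ⟨x, hx, rfl⟩
    have hy' : (y : H) ∈ X0 := by rw [hX]; exact ⟨y, hy, rfl⟩
    have e1 : ⁅(u : H), (x : H)⁆ = (⁅u, x⁆ : L) := rfl
    have e2 : ⁅(u : H), (y : H)⁆ = (⁅u, y⁆ : L) := rfl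
    have h10 := NoFourCfg.comm_eq C huu hW' h4' hua hx' hy' (by
      rw [e1]; exact fun h0 => h7 (Subtype.ext h0)) (by
      rw [e2]; exact fun h0 => h8 (Subtype.ext h0))
    rw [e1, e2] at h10
    exact h9 (Subtype.ext h10)

end Row

/-- **No involution `c` of `H` with `|[V, c]| = 4`, rows `D₆`, `E₇`.** -/
theorem no_four {G : Type*} [Group G] {Q A : Subgroup G} {z a : G} {p : LargeExtra.Base.Pair Q z A a} {w l : ℕ}
    {M : CoxeterMatrix (Fin l)} {q : Fin l → ℕ} {i : Fin l} {A' : Fin l → Fin l → ℤ} {h : IsCartan M A'}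
    {L : Subgroup p.H} {T : Subgroup L} {n : Fin l → L} {X : (Fin l → ℤ) → Subgroup L}
    (C : EH3.Cfg (p.H.subtype : p.H →* (p.lz.V ≃ₗ[ZMod 2] p.lz.V)) p.lz.b p.lz.q p.va p.D (p.X.subgroupOf p.H) w)
    (D : Fin4.At p q i h L T n X) (hw : w ≠ 10) {c : p.H} (hc : c * c = 1)
    {W : Submodule (ZMod 2) p.lz.V} (hW : ∀ x, x ∈ W ↔ ∃ u, (c : p.lz.V ≃ₗ[ZMod 2] p.lz.V) u + u = x) :
    Nat.card W ≠ 4 := by
  have := D.fin
  -- `w ≠ 10`
  have hv : Nat.card (VJ M.toCoxeterSystem h X {i}ᶜ) ≠ 2 ^ 9 := by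
    intro h9
    apply hw
    have h1 := C.card_X
    rw [D.X0, Subgroup.card_map_of_injective (Subgroup.subtype_injective L), h9] at h1
    have h2 := Nat.pow_right_injective (le_refl 2) h1
    have h3 := C.five
    omega
  cases D.good with
  | A5 => exact absurd (Numb.card_A5 D.rgd D.card).2 hv
  | D6 =>
    exact no_four_of C D.normal D.X0 D.rgd D.gen ⟨0, by decide⟩ D.fix D.card D.cent (symD' (Or.inl rfl))
      (fun _ _ hx hy => Nodes.SimplyLaced.cpr_symm _ h ne_D6.1 ne_D6.2 hx hy) (par_D6 (Or.inl rfl)) hc hW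
  | D6' =>
    exact no_four_of C D.normal D.X0 D.rgd D.gen ⟨0, by decide⟩ D.fix D.card D.cent (symD' (Or.inr rfl))
      (fun _ _ hx hy => Nodes.SimplyLaced.cpr_symm _ h ne_D6.1 ne_D6.2 hx hy) (par_D6 (Or.inr rfl)) hc hW
  | E7 =>
    exact no_four_of C D.normal D.X0 D.rgd D.gen ⟨0, by decide⟩ D.fix D.card D.cent
      (fun σ h1 _ => EH3.Kf.Idx.uE σ h1)
      (fun _ _ hx hy => Nodes.SimplyLaced.cpr_symm _ h ne_E7.1 ne_E7.2 hx hy) par_E7 hc hW
  | C3 => exact absurd (Numb.card_B3 D.rgd D.card).2 hv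

end Cfsg.Agent.Omega.EH3Close.NoFour
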