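import Cfsg.Agent.Mrg.Omega.EH3Close.AtLoc
import Cfsg.Agent.Mrg.Omega.Tools.SE
import Cfsg.Agent.Mrg.Omega.EH3Close.Numb
import Cfsg.Agent.Mrg.Omega.EH3Close.CThree.Main
import Cfsg.Agent.Mrg.Omega.EH3Close.NoFour


/-!
# The closing theorem of the four Lie rows of EH3 (helper805)

`loc_le` : `D : At p q i h L T n X`, `S` a Sylow 2-subgroup in `C_G(z)`: every member of `L(S)` normalises
`⟨A, MM p L⟩`.
-/

set_option autoImplicit false
set_option linter.unusedSectionVars false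

namespace Cfsg.Agent.Omega.EH3Close.Closing

open CoxeterSystem Cfsg.Agent.ChevalleyStructure.CoxeterGeom Cfsg.Agent.Tits.Roots Cfsg.Agent.Tits.Core
  Cfsg.Agent.Tits.RootComb Cfsg.Agent.Nodes.Comb Cfsg.Agent.Nodes.Reps Cfsg.Agent.Nodes.BNOf
  Cfsg.Agent.Nodes.StabComb Cfsg.Agent.Nodes.Bruhat Cfsg.Agent.Nodes.LeviDec Cfsg.Agent.Nodes.NormalForm
  Cfsg.Agent.Omega.EH3 Cfsg.Agent.Co2Type.Quad Cfsg.Agent.LargeExtra.Base
  Cfsg.Agent.Omega.EH3Close.Glue Cfsg.Agent.Omega.EH3Close.Fin4 Cfsg.Agent.Omega.EH3Close.AtLoc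
  Cfsg.Agent.Omega.EH3Close.FourTen
open Cfsg.Agent.Omega.EH3.Kf.Goal (Good)
open Cfsg.Agent.Omega.MinPar (IsLoc)

variable {G : Type*} [Group G] {Q A : Subgroup G} {z a : G} [Finite G] {p : Pair Q z A a} {l : ℕ}
  {M : CoxeterMatrix (Fin l)} {q : Fin l → ℕ} {i : Fin l} {A' : Fin l → Fin l → ℤ} {h : IsCartan M A'}
  {L : Subgroup p.H} {T : Subgroup L} {n : Fin l → L} {X : (Fin l → ℤ) → Subgroup L} {w : ℕ}

theorem w_eq (C : Cfg (p.H.subtype : p.H →* (p.lz.V ≃ₗ[ZMod 2] p.lz.V)) p.lz.b p.lz.q p.va p.D (p.X.subgroupOf p.H) w)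
    (D : At p q i h L T n X) {v : ℕ} (hv : Nat.card (VJ M.toCoxeterSystem h X {i}ᶜ) = 2 ^ v) : w = v + 1 := by
  have h1 := C.card_X
  rw [D.X0, Subgroup.card_map_of_injective L.subtype_injective, hv] at h1
  have h2 := Nat.pow_right_injective le_rfl h1
  have h3 := C.five
  have h4 : v = w - 1 := h2
  omega

/-- the bounds -/
theorem bound (C : Cfg (p.H.subtype : p.H →* (p.lz.V ≃ₗ[ZMod 2] p.lz.V)) p.lz.b p.lz.q p.va p.D (p.X.subgroupOf p.H) w)
    (D : At p q i h L T n X) : ∃ b : ℕ, 2 * b * 16 ≤ 2 ^ w ∧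
      (∀ Ab : Subgroup L, Ab ≤ RGD.Sup X (RGD.Pos M.toCoxeterSystem h) → (∀ x ∈ Ab, ∀ y ∈ Ab, x * y = y * x) →
      (∀ g ∈ RGD.Sup X (RGD.Pos M.toCoxeterSystem h), ∀ x ∈ Ab, g * x * g⁻¹ ∈ Ab) →
      (∀ x ∈ Ab, ∀ y ∈ Ab, ∀ v, rho p L x (rho p L y v + v) = rho p L y v + v) → Nat.card Ab ≤ b) ∧
      (w = 10 → Nat.card (RGD.Sup X (RGD.Pos M.toCoxeterSystem h)) = 2 ^ 15) := by
  have := finite_H (p := p)
  have := D.fin
  have hm := mod C D
  have hg := D.good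
  cases hg with
  | A5 =>
    obtain ⟨h1, h2⟩ := Numb.card_A5 D.rgd D.card
    have hw := w_eq C D h2
    subst hw
    exact ⟨2 ^ 5, by norm_num, fun Ab hA hc hn hq => LocRow.card_A5 hm D.card hA hc hn hq, fun _ => h1⟩
  | D6 =>
    obtain ⟨h1, h2⟩ := Numb.card_D6 D.rgd D.card (i := 4) (Or.inl rfl)
    have hw := w_eq C D h2
    subst hw
    exact ⟨2 ^ 10, by norm_num, fun Ab hA hc hn hq => LocRow.card_D6 hm D.card hA hc hn hq, fun h0 => by omega⟩
  | D6' =>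
    obtain ⟨h1, h2⟩ := Numb.card_D6 D.rgd D.card (i := 5) (Or.inr rfl)
    have hw := w_eq C D h2
    subst hw
    exact ⟨2 ^ 10, by norm_num, fun Ab hA hc hn hq => LocRow.card_D6p hm D.card hA hc hn hq, fun h0 => by omega⟩
  | E7 =>
    obtain ⟨h1, h2⟩ := Numb.card_E7 D.rgd D.card
    have hw := w_eq C D h2
    subst hw
    exact ⟨2 ^ 17, by norm_num, fun Ab hA hc hn hq => LocRow.card_E7 hm D.card hA hc hn hq, fun h0 => by omega⟩
  | C3 =>
    obtain ⟨h1, h2⟩ := Numb.card_B3 D.rgd D.card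
    have hw := w_eq C D h2
    subst hw
    exact ⟨2 ^ 5, by norm_num, fun Ab hA hc hn hq => CThree.card_le hm D.card hA hc hn hq, fun _ => h1⟩

/-- **The closing theorem.** -/
theorem loc_le (hG : Cfsg.IsCharacteristicTwoType G)
    (C : Cfg (p.H.subtype : p.H →* (p.lz.V ≃ₗ[ZMod 2] p.lz.V)) p.lz.b p.lz.q p.va p.D (p.X.subgroupOf p.H) w)
    (hall : ∀ (A'' : Subgroup G) (a'' : G) (p' : Pair Q z A'' a''), ∃ w' : ℕ,
      Cfg (p'.H.subtype : p'.H →* (p'.lz.V ≃ₗ[ZMod 2] p'.lz.V)) p'.lz.b p'.lz.q p'.va p'.D (p'.X.subgroupOf p'.H) w')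
    (D : At p q i h L T n X) (S : Sylow 2 G) (hS : (S : Subgroup G) ≤ Subgroup.centralizer ({z} : Set G))
    {M' : Subgroup G} (hM : IsLoc (S : Subgroup G) M') :
    M' ≤ Subgroup.normalizer ((A ⊔ MM p L : Subgroup G) : Set G) := by
  have := finite_H (p := p)
  have := D.fin
  by_contra hcon
  have hC := QQ.centralizer_le' D
  obtain ⟨m, -, V, o, hVS, hVn⟩ := OutLoc.exists_out hG p.lz (QQ.hadj D hall) hC S hS hM hcon
  obtain ⟨b, hb, hbd, hU⟩ := bound C D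
  have hVz : V ≤ Subgroup.centralizer ({z} : Set G) := hVS.trans hS
  -- `|[V, s]| ≠ 4`
  have h4 : Nat.card o.two.symm.W ≠ 4 := by
    intro h4
    by_cases hw : w = 10
    · exact four_ten C D hw (hU hw) o h4
    · -- then also `|[Q/z, s]| = 4`
      have h5 : Nat.card o.two.W = 4 := by
        rcases LargeExtra.CC.Two.main o.two with h6 | h6
        · exact h6
        · exfalso
          have h7 : Nat.card (o.two.symm.lr.V) = 2 ^ (2 * w) := by
            have e1 := o.two.symm.lr.card_eq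
            have e2 := o.lz.card_eq
            have e3 : Nat.card (Quad.cj m Q) = Nat.card Q :=
              (Nat.card_congr (Q.equivMapOfInjective _ (MulAut.conj m).injective).toEquiv).symm
            have e4 : Nat.card o.lz.V = 2 ^ (2 * w) := C.card_V
            omega
          rw [h4, h7] at h6
          have h8 : 2 ^ 10 ≤ 2 ^ (2 * w) := Nat.pow_le_pow_right (by norm_num) (by have := C.five; omega)
          omega
      let c : Subgroup.centralizer ({z} : Set G) :=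
        ⟨m * z * m⁻¹, Subgroup.mem_centralizer_singleton_iff.2 o.two.comm⟩
      refine NoFour.no_four C D hw (c := aH p c) ?_ (W := o.two.W) ?_ h5
      · rw [← map_mul]
        have : c * c = 1 := Subtype.ext (by
          show m * z * m⁻¹ * (m * z * m⁻¹) = 1
          have e : m * z * m⁻¹ * (m * z * m⁻¹) = m * (z * z) * m⁻¹ := by group
          rw [e, p.lz.z_sq]; group)
        rw [this, map_one]
      · intro x
        exact Iff.rfl
  have h5 := o.main h4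
  -- the image of `V`
  let P : Sylow 2 p.H := (S.subtype hS).mapSurjective (aH_surj p)
  have hP : ∀ x : p.H, x ∈ (P : Subgroup p.H) ↔ x ∈ img p (S : Subgroup G) := fun x => Iff.rfl
  have hbnd := quad_gen D hbd P (A1 := img p V) ?_ ?_ ?_ ?_
  · have h6 := card_img (p := p) hVz
    rw [h6] at hbnd
    have h7 := index_le C D
    have h8 : Nat.card o.lz.V = 2 ^ (2 * w) := C.card_V
    rw [h8] at h5
    set r := Q.relIndex V
    have h9 : r ≤ 2 * b := hbnd.trans (Nat.mul_le_mul_right _ h7)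
    have h10 : r * 16 ≤ 2 ^ w := (Nat.mul_le_mul_right _ h9).trans hb
    have h11 : (r * 16) * (r * 16) ≤ 2 ^ w * 2 ^ w := Nat.mul_le_mul h10 h10
    have h12 : (2 : ℕ) ^ (2 * w) = 2 ^ w * 2 ^ w := by rw [two_mul, pow_add]
    have h13 : 0 < 2 ^ w * 2 ^ w := by positivity
    rw [h12] at h5
    have h14 : (r * 16) * (r * 16) = 256 * (r * r) := by ring
    rw [h14] at h11
    omega
  · intro x hx
    rw [hP]
    obtain ⟨g, hg, hgV, rfl⟩ := mem_img.1 hx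
    exact mem_img.2 ⟨g, hg, hVS hgV, rfl⟩
  · intro x hx y hy
    obtain ⟨g, hg, hgV, rfl⟩ := mem_img.1 hx
    obtain ⟨k, hk, hkV, rfl⟩ := mem_img.1 hy
    rw [← map_mul, ← map_mul]
    congr 1
    exact Subtype.ext (o.comm g hgV k hkV)
  · intro g hg x hx
    rw [hP] at hg
    obtain ⟨s, hs, hsS, rfl⟩ := mem_img.1 hg
    obtain ⟨k, hk, hkV, rfl⟩ := mem_img.1 hx
    exact mem_img.2 ⟨s * k * s⁻¹, mul_mem (mul_mem hs hk) (inv_mem hs), hVn s hsS k hkV, by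
      rw [← map_inv, ← map_mul, ← map_mul]; rfl⟩
  · intro x hx y hy v
    obtain ⟨g, hg, hgV, rfl⟩ := mem_img.1 hx
    obtain ⟨k, hk, hkV, rfl⟩ := mem_img.1 hy
    obtain ⟨⟨u, hu⟩, rfl⟩ := p.lz.pr_surjective v
    have h6 : ((aH p ⟨k, hk⟩ : p.H) : p.lz.V ≃ₗ[ZMod 2] p.lz.V) (p.lz.pr ⟨u, hu⟩) + p.lz.pr ⟨u, hu⟩ =
        p.lz.pr ⟨k * u * k⁻¹ * u, mul_mem (p.lz.conj_mem k (Subgroup.mem_centralizer_singleton_iff.1 hk) u hu) hu⟩ := by
      rw [aH_coe, p.lz.act_pr, ← p.lz.pr_mul]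
      congr 1
    rw [h6, aH_coe, p.lz.act_pr]
    rw [p.lz.pr_eq_pr, p.lz.conjQ_coe]
    left
    show g * (k * u * k⁻¹ * u) * g⁻¹ = k * u * k⁻¹ * u
    -- `k u k⁻¹ u = k (u k⁻¹ u⁻¹) u²`
    have h7 : u * k⁻¹ * u⁻¹ ∈ V := o.norm u hu _ (inv_mem hkV)
    have h8 : k * u * k⁻¹ * u = (k * (u * k⁻¹ * u⁻¹)) * (u * u) := by group
    have h9 : k * (u * k⁻¹ * u⁻¹) ∈ V := mul_mem hkV h7
    have h10 := o.comm g hgV _ h9
    have h11 : g * (u * u) = (u * u) * g := by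
      rcases p.lz.sq u hu with h12 | h12
      · rw [h12, one_mul, mul_one]
      · rw [h12]; exact Subgroup.mem_centralizer_singleton_iff.1 hg
    rw [h8]
    calc g * (k * (u * k⁻¹ * u⁻¹) * (u * u)) * g⁻¹ = (g * (k * (u * k⁻¹ * u⁻¹))) * (u * u) * g⁻¹ := by group
      _ = (k * (u * k⁻¹ * u⁻¹)) * (g * (u * u)) * g⁻¹ := by rw [h10]; group
      _ = _ := by rw [h11]; group

end Cfsg.Agent.Omega.EH3Close.Closing
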